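import Cfsg.Agent.Lib.Leech.CoSections.Bits

/-!
# The centraliser of the sign change acting on the extraspecial group modulo its centre
-/

set_option autoImplicit false
set_option maxRecDepth 100000

namespace CfsgLib.Leech.CoSections

open Cfsg CfsgLib.Golay CfsgLib.Leech CfsgLib.Leech.CoTwo CfsgLib.Leech.CoOne Matrix CfsgLib.Classical

/-- The space. -/
abbrev V8 : Type := Fin 4 ⊕ Fin 4 → ZMod 2

/-- The conjugate of a kernel element. -/
noncomputable def conjK (g : cent0) (k : toO.ker) : toO.ker :=
  ⟨g * (k : cent0) * g⁻¹, (MonoidHom.normal_ker toO).conj_mem _ k.2 g⟩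

theorem coe_conjK (g : cent0) (k : toO.ker) :
    ((conjK g k : cent0) : Co0) = (g : Co0) * ((k : cent0) : Co0) * (g : Co0)⁻¹ := rfl

theorem conjK_mul (g : cent0) (k l : toO.ker) : conjK g (k * l) = conjK g k * conjK g l :=
  Subtype.ext (Subtype.ext (by simp [conjK, mul_assoc]))

theorem conjK_comp (g h : cent0) (k : toO.ker) : conjK (g * h) k = conjK g (conjK h k) :=
  Subtype.ext (Subtype.ext (by simp [conjK, mul_assoc]))

theorem conjK_one (k : toO.ker) : conjK 1 k = k := Subtype.ext (Subtype.ext (by simp [conjK]))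

theorem kx_of_zeta {k : toO.ker} (h : IsZeta ((k : cent0) : Co0)) : kx k = 0 := by
  obtain ⟨b0, e0, hb0⟩ := kEl_one_exists
  obtain ⟨bt, hbt, et⟩ := tAut_eq_kEl
  have z0 : ∀ b < 32, dc b = 0 ∨ dc b = outMask → kBit 0 b = 0 := by decide +kernel
  have v0 : ∀ b : Fin 32, dc b.val = 0 ∨ dc b.val = outMask →
      vecE (kBit (0 : Fin 16).val b.val) = 0 := fun b hb => by
    rw [show ((0 : Fin 16).val) = 0 from rfl, z0 _ b.isLt hb]
    funext i; simp [vecE]
  rcases h with e | e | e | e
  · rw [kx_eq (a := 0) (b := b0) (Or.inl (e.trans e0.symm))]; exact v0 _ (Or.inl hb0)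
  · rw [kx_eq (a := 0) (b := bt) (Or.inl (e.trans et))]; exact v0 _ (Or.inr hbt)
  · rw [kx_eq (a := 0) (b := b0) (Or.inr (by rw [e, e0, mul_one]))]; exact v0 _ (Or.inl hb0)
  · rw [kx_eq (a := 0) (b := bt) (Or.inr (by rw [e, et]))]; exact v0 _ (Or.inr hbt)

theorem kx_conj_congr (g : cent0) {k l : toO.ker} (h : kx k = kx l) : kx (conjK g k) = kx (conjK g l) := by
  have hd : kx (k * l⁻¹) = 0 := by rw [kx_mul, kx_inv, h]; funext i; exact CharTwo.add_self_eq_zero _
  have hz := kx_eq_zero hd
  have e : conjK g (k * l⁻¹) = k * l⁻¹ := Subtype.ext (Subtype.ext (by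
    rw [coe_conjK, ← hz.comm g.2, mul_inv_cancel_right]))
  have h2 := congrArg kx (conjK_mul g (k * l⁻¹) l)
  rw [inv_mul_cancel_right, e, kx_mul, hd, zero_add] at h2
  exact h2

/-- A kernel element with given coordinates. -/
noncomputable def kSec (v : V8) : toO.ker := kK (kx_surj v).choose (kx_surj v).choose_spec.choose

theorem kx_kSec (v : V8) : kx (kSec v) = v := (kx_surj v).choose_spec.choose_spec

/-- The action on coordinates. -/
noncomputable def actV (g : cent0) : V8 →ₗ[ZMod 2] V8 :=
  AddMonoidHom.toZModLinearMap 2 (AddMonoidHom.mk' (fun v => kx (conjK g (kSec v))) fun v w => by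
    rw [← kx_mul, ← conjK_mul]
    exact kx_conj_congr g (by rw [kx_mul, kx_kSec, kx_kSec, kx_kSec]))

theorem actV_kx (g : cent0) (k : toO.ker) : actV g (kx k) = kx (conjK g k) :=
  kx_conj_congr g (kx_kSec _)

theorem actV_comp (g h : cent0) (v : V8) : actV (g * h) v = actV g (actV h v) := by
  rw [← kx_kSec v, actV_kx, actV_kx, actV_kx, conjK_comp]

theorem actV_one (v : V8) : actV 1 v = v := by
  rw [← kx_kSec v, actV_kx, conjK_one]

theorem actV_quad (g : cent0) (v : V8) : Q8 (actV g v) = Q8 v := by
  rw [← kx_kSec v, actV_kx]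
  have h1 := sq_of_quad (kSec v)
  have h2 := sq_of_quad (conjK g (kSec v))
  have e : (((conjK g (kSec v) : toO.ker) : cent0) : Co0) * ((conjK g (kSec v) : cent0) : Co0) =
      ((kSec v : cent0) : Co0) * ((kSec v : cent0) : Co0) := by
    have ht : (g : Co0) * tAut = tAut * g := Subgroup.mem_centralizer_singleton_iff.1 g.2
    rw [coe_conjK]
    calc (g : Co0) * ((kSec v : cent0) : Co0) * (g : Co0)⁻¹ * ((g : Co0) * ((kSec v : cent0) : Co0) * (g : Co0)⁻¹)
        = (g : Co0) * (((kSec v : cent0) : Co0) * ((kSec v : cent0) : Co0)) * (g : Co0)⁻¹ := by group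
      _ = _ := by
        rw [h1]
        split
        · rw [ht, mul_inv_cancel_right]
        · rw [mul_one, mul_inv_cancel]
  rw [e, h1] at h2
  have hb : ∀ x : ZMod 2, x = 0 ∨ x = 1 := by decide
  rcases hb (Q8 (kx (kSec v))) with a | a <;> rcases hb (Q8 (kx (conjK g (kSec v)))) with b | b <;>
    rw [a, b] at h2 ⊢
  · simp only [zero_ne_one, if_false, if_true] at h2
    exact absurd h2.symm tAut_ne_one
  · simp only [zero_ne_one, if_false, if_true] at h2
    exact absurd h2 tAut_ne_one

/-- The automorphism of the quadratic space. -/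
noncomputable def autK (g : cent0) : qAut Q8 :=
  ⟨LinearEquiv.ofLinearMap (actV g) (actV g⁻¹)
    (LinearMap.ext fun v => by rw [LinearMap.comp_apply, ← actV_comp, mul_inv_cancel, actV_one, LinearMap.id_apply])
    (LinearMap.ext fun v => by rw [LinearMap.comp_apply, ← actV_comp, inv_mul_cancel, actV_one, LinearMap.id_apply]),
    actV_quad g⟩

/-- The homomorphism to the orthogonal group. -/
noncomputable def toK : cent0 →* qAut Q8 :=
  MonoidHom.mk' autK fun a b => qAut_ext fun v => actV_comp a b v

theorem toK_kx (g : cent0) (k : toO.ker) : (toK g).1 (kx k) = kx (conjK g k) := actV_kx g k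

theorem toK_eq_one_iff (g : cent0) : toK g = 1 ↔ ∀ k : toO.ker, kx (conjK g k) = kx k := by
  constructor
  · intro h k
    rw [← toK_kx, h]
    rfl
  · intro h
    refine qAut_ext fun v => ?_
    rw [← kx_kSec v, toK_kx, h]
    rfl

theorem polar_swap (w : V8) (k : Fin 4 ⊕ Fin 4) :
    QuadraticMap.polar Q8 (Pi.single k 1) w = w k.swap := by
  have e : ∀ u : V8, Q8 u = ∑ i : Fin 4, u (.inl i) * u (.inr i) := fun u => by
    rw [coe_qPlus]; rfl
  rcases k with i | i <;> fin_cases i <;>
    simp [QuadraticMap.polar, e, Fin.sum_univ_four, Pi.single_apply] <;> ring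

theorem ker_toK : toK.ker = toO.ker := by
  classical
  refine le_antisymm (fun g hg => ?_) (fun g hg => ?_)
  · rw [MonoidHom.mem_ker, toK_eq_one_iff] at hg
    -- the commutators with the kernel are signs
    have hz : ∀ k : toO.ker, ∃ ζ : Co0, (ζ = 1 ∨ ζ = tAut) ∧
        (g : Co0) * ((k : cent0) : Co0) * (g : Co0)⁻¹ = ζ * ((k : cent0) : Co0) := by
      intro k
      have h0 : kx (conjK g k * k⁻¹) = 0 := by
        rw [kx_mul, kx_inv, hg]; funext i; exact CharTwo.add_self_eq_zero _
      have hz := kx_eq_zero h0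
      set ζ := (((conjK g k * k⁻¹ : toO.ker) : cent0) : Co0) with hζ
      refine ⟨ζ, ?_, ?_⟩
      swap
      · simp only [hζ, Subgroup.coe_mul, Subgroup.coe_inv, coe_conjK, inv_mul_cancel_right]
      -- a sign `-1` would move the roots
      rcases hz with e | e | e | e
      · exact Or.inl e
      · exact Or.inr e
      all_goals
        exfalso
        obtain ⟨⟨a, b⟩, hk⟩ := exists_rep k
        have hfix : ∀ c : Co0, (∀ i, c • rootW i = rootW i) → ∀ i,
            ((g : Co0) * c * (g : Co0)⁻¹) • rootW i = rootW i := by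
          intro c hc i
          rw [mul_smul, mul_smul]
          rcases imgE_spec g⁻¹ i with h | h <;> rw [Subgroup.coe_inv] at h <;> rw [h]
          · rw [hc, ← h, smul_inv_smul]
          · rw [smul_neg', hc, ← h, smul_inv_smul]
        have hkf : ∀ i, (((g : Co0) * kEl a b * (g : Co0)⁻¹) * (kEl a b)⁻¹) • rootW i = rootW i := fun i => by
          rw [mul_smul, show (kEl a b)⁻¹ • rootW i = rootW i from inv_smul_eq_iff.2 (kEl_fix a b i).symm,
            hfix _ (kEl_fix a b)]
        have hval : ((g : Co0) * kEl a b * (g : Co0)⁻¹) * (kEl a b)⁻¹ = ζ := by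
          simp only [hζ, Subgroup.coe_mul, Subgroup.coe_inv, coe_conjK]
          rcases hk with hk | hk <;> rw [hk]
          rw [_root_.mul_inv_rev]
          have h' := negAut_comm (g : Co0)
          calc (g : Co0) * kEl a b * (g : Co0)⁻¹ * (kEl a b)⁻¹
              = negAut * ((g : Co0) * kEl a b * (g : Co0)⁻¹ * (kEl a b)⁻¹) * negAut⁻¹ := by
                rw [negAut_comm, mul_inv_cancel_right]
            _ = _ := by
                simp only [← mul_assoc]
                rw [h']
        have h := hkf 0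
        rw [hval, e] at h
        first
          | (rw [neg_smul'] at h; exact rootW_ne.2 h.symm)
          | (rw [mul_smul, (tAut_smul_eq_self _).2 (rootW_supp 0), neg_smul'] at h; exact rootW_ne.2 h.symm)
    choose ζ hζ1 hζ2 using hz
    let f : toO.ker → ZMod 2 := fun k => if ζ k = 1 then 0 else 1
    have hζmul : ∀ k l, ζ (k * l) = ζ k * ζ l := by
      intro k l
      have hc : ((k : cent0) : Co0) * ζ l = ζ l * ((k : cent0) : Co0) :=
        ((show IsZeta (ζ l) by rcases hζ1 l with e | e <;> simp [IsZeta, e]).comm (k : cent0).2).symm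
      refine mul_right_cancel (b := (((k * l : toO.ker) : cent0) : Co0)) ?_
      rw [← hζ2, Subgroup.coe_mul, Subgroup.coe_mul]
      calc (g : Co0) * (((k : cent0) : Co0) * ((l : cent0) : Co0)) * (g : Co0)⁻¹
          = ((g : Co0) * ((k : cent0) : Co0) * (g : Co0)⁻¹) * ((g : Co0) * ((l : cent0) : Co0) * (g : Co0)⁻¹) := by group
        _ = _ := by rw [hζ2, hζ2, mul_assoc (ζ k), ← mul_assoc ((k : cent0) : Co0), hc]; group
    have hf : ∀ k l, f (k * l) = f k + f l := by
      intro k l
      rcases hζ1 k with a | a <;> rcases hζ1 l with b | b <;>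
        simp [f, hζmul, a, b, tAut_ne_one, tAut_mul_self, CharTwo.add_self_eq_zero]
    have hf0 : ∀ k, kx k = 0 → f k = 0 := by
      intro k hk
      have : ζ k = 1 := by
        have h := hζ2 k
        rw [← (kx_eq_zero hk).comm g.2, mul_inv_cancel_right] at h
        exact right_eq_mul.1 h
      simp [f, this]
    have hfc : ∀ k l, kx k = kx l → f k = f l := by
      intro k l h
      have hd : kx (k * l⁻¹) = 0 := by rw [kx_mul, kx_inv, h]; funext i; exact CharTwo.add_self_eq_zero _
      have h2 := hf (k * l⁻¹) l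
      rwa [inv_mul_cancel_right, hf0 _ hd, zero_add] at h2
    let F : V8 →ₗ[ZMod 2] ZMod 2 := AddMonoidHom.toZModLinearMap 2 (AddMonoidHom.mk' (fun v => f (kSec v))
      fun v w => by rw [← hf]; exact hfc _ _ (by rw [kx_mul, kx_kSec, kx_kSec, kx_kSec]))
    let w : V8 := fun k => F (Pi.single k.swap 1)
    have hpol : ∀ v, QuadraticMap.polar Q8 v w = F v := by
      intro v
      have : (Q8.polarBilin.flip w) = F := LinearMap.pi_ext' fun k => LinearMap.ext_ring (by
        simp [polar_swap, w])
      exact LinearMap.congr_fun this v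
    obtain ⟨a, b, hab⟩ := kx_surj w
    -- the kernel element with the same action
    have hsame : ∀ c d, (g : Co0) * kEl c d * (g : Co0)⁻¹ = kEl a b * kEl c d * (kEl a b)⁻¹ := by
      intro c d
      have hg2 := hζ2 (kK c d)
      change (g : Co0) * kEl c d * (g : Co0)⁻¹ = ζ (kK c d) * kEl c d at hg2
      have hfv : f (kK c d) = QuadraticMap.polar Q8 (kx (kK c d)) (kx (kK a b)) := by
        rw [hab, hpol]
        exact hfc _ _ (kx_kSec _).symm
      have hQ : Q8 (kx (kK c d * kK a b)) = Q8 (kx (kK c d)) + Q8 (kx (kK a b)) + f (kK c d) := by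
        rw [hfv, kx_mul, QuadraticMap.polar]; ring
      have s1 := sq_of_quad (kK c d * kK a b)
      have s2 : kEl c d * kEl c d = _ := sq_of_quad (kK c d)
      have s3 : kEl a b * kEl a b = _ := sq_of_quad (kK a b)
      change kEl c d * kEl a b * (kEl c d * kEl a b) = _ at s1
      rw [hQ] at s1
      rcases kEl_commutes a c b d with e | e
      · have h1 : kEl c d * kEl a b * (kEl c d * kEl a b) = kEl c d * kEl c d * (kEl a b * kEl a b) := by
          rw [mul_assoc, ← mul_assoc (kEl a b), e]; group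
        have hf1 : f (kK c d) = 0 := by
          rw [h1, s2, s3] at s1
          revert s1
          have hb : ∀ x : ZMod 2, x = 0 ∨ x = 1 := by decide
          rcases hb (Q8 (kx (kK c d))) with u | u <;> rcases hb (Q8 (kx (kK a b))) with v | v <;>
            rcases hb (f (kK c d)) with x | x <;>
            simp [u, v, x, tAut_ne_one, Ne.symm tAut_ne_one, tAut_mul_self, CharTwo.add_self_eq_zero]
        have hζ : ζ (kK c d) = 1 := by
          by_contra hne; simp [f, hne] at hf1
        rw [hg2, hζ, one_mul, e, mul_inv_cancel_right]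
      · have ht : tAut * kEl c d = kEl c d * tAut :=
          (show IsZeta tAut from Or.inr (Or.inl rfl)).comm (kEl_mem0 c d)
        have h1 : kEl c d * kEl a b * (kEl c d * kEl a b) = tAut * (kEl c d * kEl c d * (kEl a b * kEl a b)) := by
          rw [mul_assoc, ← mul_assoc (kEl a b), e, ← mul_assoc (kEl c d), ← mul_assoc (kEl c d) tAut, ← ht]
          group
        have hf1 : f (kK c d) = 1 := by
          rw [h1, s2, s3] at s1
          revert s1
          have hb : ∀ x : ZMod 2, x = 0 ∨ x = 1 := by decide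
          rcases hb (Q8 (kx (kK c d))) with u | u <;> rcases hb (Q8 (kx (kK a b))) with v | v <;>
            rcases hb (f (kK c d)) with x | x <;>
            simp [u, v, x, tAut_ne_one, Ne.symm tAut_ne_one, tAut_mul_self, CharTwo.add_self_eq_zero]
        have hζ : ζ (kK c d) = tAut := by
          refine (hζ1 _).resolve_left fun hne => ?_
          simp [f, hne] at hf1
        rw [hg2, hζ, e, ← mul_assoc, mul_inv_cancel_right]
    have hcomm : ∀ c d, (kEl a b)⁻¹ * (g : Co0) * kEl c d = kEl c d * ((kEl a b)⁻¹ * (g : Co0)) := by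
      intro c d
      calc (kEl a b)⁻¹ * (g : Co0) * kEl c d = (kEl a b)⁻¹ * ((g : Co0) * kEl c d * (g : Co0)⁻¹) * g := by group
        _ = kEl c d * ((kEl a b)⁻¹ * g) := by rw [hsame]; group
    have hres : g = (kK a b : cent0) * ((kK a b : cent0)⁻¹ * g) := (mul_inv_cancel_left _ _).symm
    rw [hres]
    refine mul_mem (kK a b).2 (mem_ker_toO.2 ?_)
    obtain ⟨b0, e0, -⟩ := kEl_one_exists
    obtain ⟨bt, -, et⟩ := tAut_eq_kEl
    have hc : (((kK a b : cent0)⁻¹ * g : cent0) : Co0) = (kEl a b)⁻¹ * (g : Co0) := rfl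
    rcases centralizer_kEl hcomm with h | h | h | h <;> rw [← hc] at h
    · exact ⟨0, b0, Or.inl (h.trans e0.symm)⟩
    · exact ⟨0, bt, Or.inl (h.trans et)⟩
    · exact ⟨0, b0, Or.inr (by rw [h, e0, mul_one])⟩
    · exact ⟨0, bt, Or.inr (by rw [h, et])⟩
  · rw [MonoidHom.mem_ker, toK_eq_one_iff]
    intro k
    have e : conjK g k = (⟨g, hg⟩ : toO.ker) * k * (⟨g, hg⟩ : toO.ker)⁻¹ := Subtype.ext rfl
    rw [e, kx_mul, kx_mul, kx_inv, add_right_comm]
    rw [show kx (⟨g, hg⟩ : toO.ker) + kx ⟨g, hg⟩ = 0 from funext fun i => CharTwo.add_self_eq_zero _, zero_add]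

theorem commutator_simple : IsSimpleGroup ↥(commutator (qAut Q8)) := by
  have hZ : Subgroup.center (Omega (ZMod 2) ⇑Q8) = ⊥ := Subgroup.card_eq_one.1
    (card_center_Omega_one Q8 (polarNondeg_qPlus 4) (by simp) fun _ => by decide)
  haveI := isSimpleGroup_POmega Q8 (polarNondeg_qPlus 4) (by simp)
  haveI : IsSimpleGroup (Omega (ZMod 2) ⇑Q8) :=
    ((QuotientGroup.quotientMulEquivOfEq hZ).trans QuotientGroup.quotientBot).symm.isSimpleGroup
  exact (((isoEquiv Q8).subgroupMap (Omega (ZMod 2) ⇑Q8)).trans
    (MulEquiv.subgroupCongr (map_commutator_equiv (isoEquiv Q8)))).symm.isSimpleGroup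

theorem not_commute_ok : ∃ i < 120, (permGen.getD 0 []).getD ((permGen.getD 1 []).getD i 0) 0 ≠
    (permGen.getD 1 []).getD ((permGen.getD 0 []).getD i 0) 0 := by
  decide +kernel

theorem range_toK : toK.range = commutator (qAut Q8) := by
  haveI : Finite (qAut Q8) := finite_qAut Q8
  haveI hs := commutator_simple
  let e : toO.range ≃* toK.range :=
    (QuotientGroup.quotientKerEquivRange toO).symm.trans
      ((QuotientGroup.quotientMulEquivOfEq ker_toK.symm).trans (QuotientGroup.quotientKerEquivRange toK))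
  haveI : IsSimpleGroup ↥toK.range :=
    ((MulEquiv.subgroupCongr range_eq).symm.trans e).symm.isSimpleGroup
  -- it is not abelian
  obtain ⟨i, hi, hne⟩ := not_commute_ok
  obtain ⟨gA, hA⟩ := exists_genE genA_ok
  obtain ⟨gB, hB⟩ := exists_genE genB_ok
  have hnc : gA * gB * gA⁻¹ * gB⁻¹ ∉ toO.ker := by
    intro h
    rw [MonoidHom.mem_ker, toO_eq_one_iff] at h
    refine hne ?_
    have hab : ∀ j, imgE gA (imgE gB j) = imgE gB (imgE gA j) := fun j => by
      have := h (imgE gB (imgE gA j))
      rw [← imgE_mul gB gA, ← imgE_mul] at this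
      rw [show gA * gB * gA⁻¹ * gB⁻¹ * (gB * gA) = gA * gB by group, imgE_mul] at this
      rw [this, imgE_mul]
    have := congrArg Fin.val (hab ⟨i, hi⟩)
    rwa [hA, hB, hB, hA] at this
  have htop : commutator ↥toK.range = ⊤ := by
    refine (IsSimpleGroup.eq_bot_or_eq_top_of_normal _ inferInstance).resolve_left fun h => hnc ?_
    rw [← ker_toK, MonoidHom.mem_ker]
    have := Subgroup.commutator_mem_commutator (Subgroup.mem_top (toK.rangeRestrict gA))
      (Subgroup.mem_top (toK.rangeRestrict gB))
    rw [← _root_.commutator_def, h, Subgroup.mem_bot, commutatorElement_def, ← map_inv, ← map_inv, ← map_mul, ← map_mul,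
      ← map_mul] at this
    exact congrArg Subtype.val this
  have hle : toK.range ≤ commutator (qAut Q8) := by
    intro x hx
    have hm : (⟨x, hx⟩ : toK.range) ∈ commutator ↥toK.range := htop ▸ Subgroup.mem_top _
    have := Subgroup.mem_map_of_mem toK.range.subtype hm
    rw [_root_.commutator_def, Subgroup.map_commutator] at this
    exact Subgroup.commutator_mono le_top le_top this
  refine Subgroup.eq_of_le_of_card_ge hle (le_of_eq ?_)
  rw [← Nat.card_congr e.toEquiv, range_eq]

end CfsgLib.Leech.CoSections
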