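import Mathlib.Data.Int.Notation
import Mathlib.Data.Nat.Notation

/-!
Generated data: coordinates of the extraspecial group modulo its centre and two elements of orders
three and five with elements of their centralisers moving the sign change.
-/

set_option autoImplicit false

namespace CfsgLib.Leech.CoSections

/-- The coordinates of the translations. -/
def abTab : List ℕ :=
  [0, 1, 2, 4, 8, 3, 5, 10, 6, 12, 11, 7, 15, 14, 13, 9]

/-- The coordinates of the sign changes. -/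
def bbTab : List ℕ :=
  [0, 128, 176, 48, 16, 144, 160, 32, 96, 224, 208, 80, 112, 240, 192, 64, 64, 192, 240, 112, 80, 208, 224, 96, 32, 160, 144, 16, 48, 176, 128, 0]

/-- Kernel elements with unit coordinates. -/
def unitKer : List (ℕ × ℕ) :=
  [(1, 0), (2, 0), (3, 0), (4, 0), (0, 4), (0, 7), (0, 15), (0, 1)]

/-- Twice the element of order 3. -/
def threeA : List (List (ℕ × ℤ)) :=
  [[(0, -1), (2, 1), (10, 1), (23, -1)],
   [(1, -1), (9, 1), (15, 1), (20, -1)],
   [(0, -1), (2, -1), (10, -1), (23, -1)],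
   [(3, -1), (18, 1), (19, 1), (22, -1)],
   [(4, -1), (5, 1), (6, 1), (11, -1)],
   [(4, -1), (5, -1), (6, -1), (11, -1)],
   [(4, -1), (5, 1), (6, -1), (11, 1)],
   [(7, -1), (8, 1), (14, -1), (16, 1)],
   [(7, -1), (8, -1), (14, -1), (16, -1)],
   [(1, -1), (9, -1), (15, -1), (20, -1)],
   [(0, -1), (2, 1), (10, -1), (23, 1)],
   [(4, 1), (5, 1), (6, -1), (11, -1)],
   [(12, -1), (13, 1), (17, 1), (21, -1)],
   [(12, -1), (13, -1), (17, 1), (21, 1)],
   [(7, 1), (8, 1), (14, -1), (16, -1)],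
   [(1, -1), (9, 1), (15, -1), (20, 1)],
   [(7, -1), (8, 1), (14, 1), (16, -1)],
   [(12, -1), (13, -1), (17, -1), (21, -1)],
   [(3, -1), (18, -1), (19, -1), (22, -1)],
   [(3, -1), (18, 1), (19, -1), (22, 1)],
   [(1, 1), (9, 1), (15, -1), (20, -1)],
   [(12, 1), (13, -1), (17, 1), (21, -1)],
   [(3, 1), (18, 1), (19, -1), (22, -1)],
   [(0, 1), (2, 1), (10, -1), (23, -1)]]

/-- Twice an element of its centraliser. -/
def threeG : List (List (ℕ × ℤ)) :=
  [[(1, 1), (9, -1), (15, -1), (18, -1)],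
   [(5, -1), (12, 1), (14, -1), (23, -1)],
   [(1, 1), (9, -1), (15, 1), (18, 1)],
   [(2, -1), (11, -1), (13, 1), (16, -1)],
   [(1, -1), (9, -1), (15, 1), (18, -1)],
   [(3, 1), (19, 1), (20, 1), (22, -1)],
   [(3, 1), (19, -1), (20, 1), (22, 1)],
   [(4, 1), (7, 1), (10, 1), (17, -1)],
   [(2, 1), (11, -1), (13, 1), (16, 1)],
   [(2, -1), (11, 1), (13, 1), (16, 1)],
   [(3, 1), (19, 1), (20, -1), (22, 1)],
   [(3, 1), (19, -1), (20, -1), (22, -1)],
   [(0, -1), (6, -1), (8, -1), (21, 1)],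
   [(5, -1), (12, 1), (14, 1), (23, 1)],
   [(0, 1), (6, -1), (8, -1), (21, -1)],
   [(0, -1), (6, 1), (8, -1), (21, -1)],
   [(5, 1), (12, 1), (14, -1), (23, 1)],
   [(4, 1), (7, 1), (10, -1), (17, 1)],
   [(4, -1), (7, 1), (10, 1), (17, 1)],
   [(0, 1), (6, 1), (8, -1), (21, 1)],
   [(4, -1), (7, 1), (10, -1), (17, -1)],
   [(2, 1), (11, 1), (13, 1), (16, -1)],
   [(5, 1), (12, 1), (14, 1), (23, -1)],
   [(1, -1), (9, -1), (15, -1), (18, 1)]]

/-- The conjugate of the sign change. -/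
def threeConj : Bool × ℕ × ℕ :=
  (true, 9, 0)

/-- The conjugates of the unit kernel elements. -/
def threeUnits : List (Bool × ℕ × ℕ) :=
  [(false, 12, 28), (false, 9, 28), (false, 9, 18), (false, 0, 18), (false, 0, 4), (false, 8, 22), (false, 8, 30), (false, 13, 2)]

/-- The action on coordinates. -/
def threeAImg : List ℕ :=
  [63, 60, 252, 240, 16, 230, 134, 190]

/-- A basis of the fixed space. -/
def threeEImg : List ℕ :=
  [3, 12, 16, 74, 54, 196]

/-- The projection to the fixed space. -/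
def threePImg : List ℕ :=
  [33, 32, 18, 16, 4, 38, 56, 10]

/-- A moved vector and the coordinates of the conjugate. -/
def threeVec : ℕ × ℕ :=
  (62, 2)

/-- Unit vectors from pairs of reflections. -/
def threeWit : List (List ℕ) :=
  [[13, 14], [5, 5], [11, 13], [5, 10], [5, 40, 5, 56], [5, 24, 5, 56]]

/-- Twice the element of order 5. -/
def fiveA : List (List (ℕ × ℤ)) :=
  [[(2, 1), (5, 1), (11, -1), (23, 1)],
   [(1, -1), (15, -1), (19, 1), (22, -1)],
   [(2, -1), (5, -1), (11, -1), (23, 1)],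
   [(1, 1), (15, -1), (19, 1), (22, 1)],
   [(0, -1), (4, -1), (6, 1), (10, -1)],
   [(0, -1), (4, -1), (6, -1), (10, 1)],
   [(2, -1), (5, 1), (11, -1), (23, -1)],
   [(7, -1), (8, 1), (17, 1), (21, 1)],
   [(12, -1), (13, -1), (14, -1), (16, 1)],
   [(1, -1), (15, 1), (19, 1), (22, 1)],
   [(0, -1), (4, 1), (6, -1), (10, -1)],
   [(2, 1), (5, -1), (11, -1), (23, -1)],
   [(7, 1), (8, 1), (17, -1), (21, 1)],
   [(12, 1), (13, -1), (14, 1), (16, 1)],
   [(7, 1), (8, 1), (17, 1), (21, -1)],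
   [(3, 1), (9, -1), (18, -1), (20, -1)],
   [(12, 1), (13, -1), (14, -1), (16, -1)],
   [(7, -1), (8, 1), (17, -1), (21, -1)],
   [(3, -1), (9, 1), (18, -1), (20, -1)],
   [(3, -1), (9, -1), (18, 1), (20, -1)],
   [(3, 1), (9, 1), (18, 1), (20, -1)],
   [(12, -1), (13, -1), (14, 1), (16, -1)],
   [(1, 1), (15, 1), (19, 1), (22, -1)],
   [(0, -1), (4, 1), (6, 1), (10, 1)]]

/-- Twice an element of its centraliser. -/
def fiveG : List (List (ℕ × ℤ)) :=
  [[(12, 1), (14, 1), (17, -1), (21, 1)],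
   [(0, -1), (3, 1), (4, -1), (20, -1)],
   [(7, 1), (8, -1), (13, -1), (16, -1)],
   [(2, -1), (5, 1), (15, 1), (22, 1)],
   [(12, -1), (14, 1), (17, -1), (21, -1)],
   [(7, 1), (8, 1), (13, -1), (16, 1)],
   [(12, 1), (14, 1), (17, 1), (21, -1)],
   [(2, 1), (5, 1), (15, -1), (22, 1)],
   [(6, -1), (9, 1), (10, 1), (18, 1)],
   [(0, 1), (3, -1), (4, -1), (20, -1)],
   [(7, -1), (8, 1), (13, -1), (16, -1)],
   [(7, -1), (8, -1), (13, -1), (16, 1)],
   [(0, 1), (3, 1), (4, -1), (20, 1)],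
   [(1, 1), (11, -1), (19, -1), (23, -1)],
   [(2, -1), (5, 1), (15, -1), (22, -1)],
   [(1, -1), (11, -1), (19, -1), (23, 1)],
   [(6, -1), (9, 1), (10, -1), (18, -1)],
   [(0, -1), (3, -1), (4, -1), (20, 1)],
   [(6, -1), (9, -1), (10, -1), (18, 1)],
   [(6, -1), (9, -1), (10, 1), (18, -1)],
   [(1, -1), (11, -1), (19, 1), (23, -1)],
   [(1, 1), (11, -1), (19, 1), (23, 1)],
   [(2, 1), (5, 1), (15, 1), (22, -1)],
   [(12, -1), (14, 1), (17, 1), (21, 1)]]

/-- The conjugate of the sign change. -/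
def fiveConj : Bool × ℕ × ℕ :=
  (true, 10, 31)

/-- The conjugates of the unit kernel elements. -/
def fiveUnits : List (Bool × ℕ × ℕ) :=
  [(false, 13, 31), (false, 7, 6), (false, 5, 12), (false, 12, 25), (false, 15, 7), (false, 1, 23), (false, 1, 31), (false, 15, 8)]

/-- The action on coordinates. -/
def fiveAImg : List ℕ :=
  [14, 170, 115, 175, 41, 97, 1, 105]

/-- A basis of the fixed space. -/
def fiveEImg : List ℕ :=
  [11, 85, 62, 156]

/-- The projection to the fixed space. -/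
def fivePImg : List ℕ :=
  [13, 8, 1, 4, 3, 10, 13, 14]

/-- A moved vector and the coordinates of the conjugate. -/
def fiveVec : ℕ × ℕ :=
  (15, 1)

/-- Unit vectors from pairs of reflections. -/
def fiveWit : List (List ℕ) :=
  [[3, 3], [3, 4], [3, 10, 3, 14], [3, 6, 3, 14]]

end CfsgLib.Leech.CoSections
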