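import Cfsg.Agent.Lib.Leech.CoOne.Image
import Cfsg.Agent.Lib.Leech.CoSections.Data
import Cfsg.Agent.Lib.Classical.QuadSiegel
import Cfsg.Agent.Lib.Classical.QuadPOmega

/-!
# Coordinates of the extraspecial group modulo its centre
-/

set_option autoImplicit false
set_option maxRecDepth 100000

namespace CfsgLib.Leech.CoSections

open Cfsg CfsgLib.Golay CfsgLib.Leech CfsgLib.Leech.CoTwo CfsgLib.Leech.CoOne Matrix CfsgLib.Classical

/-- The coordinates of a kernel element. -/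
def kBit (a b : ℕ) : ℕ := abTab.getD a 0 ^^^ bbTab.getD b 0

theorem tr_mul_ok : ∀ a < 16, ∀ a' < 16, ∃ c < 16, abTab.getD c 0 = abTab.getD a 0 ^^^ abTab.getD a' 0 ∧
    ∀ i < 24, (tr c).getD i 0 = (tr a).getD ((tr a').getD i 0) 0 := by
  decide +kernel

theorem dc_xor_ok : (∀ b < 32, ∀ b' < 32, ∃ c < 32, dc c = dc b ^^^ dc b' ∧
      bbTab.getD c 0 = bbTab.getD b 0 ^^^ bbTab.getD b' 0) ∧
    ∀ b < 32, ∃ c < 32, dc c = dc b ^^^ outMask ∧ bbTab.getD c 0 = bbTab.getD b 0 := by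
  decide +kernel

theorem quad_ok : ∀ a < 16, ∀ b < 32, dc b ^^^ imgMask (tr a) (dc b) =
    if quadN (kBit a b) then outMask else 0 := by
  decide +kernel

theorem kBit_zero_ok : ∀ a < 16, ∀ b < 32, kBit a b = 0 → a = 0 ∧ (dc b = 0 ∨ dc b = outMask) := by
  decide +kernel

theorem kBit_lt : ∀ a < 16, ∀ b < 32, kBit a b < 256 := by decide +kernel

theorem kBit_onto : ∀ x < 256, ∃ a < 16, ∃ b < 32, kBit a b = x := by decide +kernel

/-- A sign. -/
def sgnEl (s : Bool) : Co0 := if s then negAut else 1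

/-- A signed list. -/
def sgnL (s : Bool) (l : List ℤ) : List ℤ := if s then negL l else l

/-- The image of a coordinate list under a kernel element. -/
def kImg (a b : ℕ) (l : List ℤ) : List ℤ :=
  (List.range 24).map fun i =>
    if (dc b).testBit i then -(l.getD ((tr a).getD i 0) 0) else l.getD ((tr a).getD i 0) 0

theorem kImg_spec (a : Fin 16) (b : Fin 32) {v : leechLattice} {l : List ℤ}
    (h : (v : GolayPt → ℤ) = toVec l) :
    ((kEl a b • v : leechLattice) : GolayPt → ℤ) = toVec (kImg a.val b.val l) := by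
  funext p
  have hinv : (trP a).symm p = trP a p := by
    rw [Equiv.symm_apply_eq, ← Equiv.Perm.mul_apply, trP_sq, Equiv.Perm.one_apply]
  rw [kEl, coe_monoAut_smul, signedPerm, kImg, toVec_range, h]
  simp only [toVec, hinv, trP_apply, mem_toSet]

theorem sgn_spec (s : Bool) {v : leechLattice} {l : List ℤ} (h : (v : GolayPt → ℤ) = toVec l) :
    ((sgnEl s • v : leechLattice) : GolayPt → ℤ) = toVec (sgnL s l) := by
  cases s
  · simp only [sgnEl, sgnL, Bool.false_eq_true, if_false, one_smul, h]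
  · simp only [sgnEl, sgnL, if_true, neg_smul', AddSubgroup.coe_neg, h, toVec_negL]

theorem ext_gen {g h : Co0}
    (H : ∀ (v : leechLattice) (l : List ℤ), l ∈ genList → (v : GolayPt → ℤ) = toVec l → g • v = h • v) :
    g = h := by
  refine co_ext fun v => ?_
  have := lat_induction (P := fun x => x ∈ leechLattice ∧ ∀ hx : x ∈ leechLattice,
      g • (⟨x, hx⟩ : leechLattice) = h • ⟨x, hx⟩)
    ⟨zero_mem _, fun hx => by
      have hz : (⟨0, hx⟩ : leechLattice) = 0 := rfl
      rw [hz, ← actHom_apply, ← actHom_apply, map_zero, map_zero]⟩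
    (fun x y ⟨mx, ix⟩ ⟨my, iy⟩ => ⟨add_mem mx my, fun hxy => by
      rw [show (⟨x + y, hxy⟩ : leechLattice) = ⟨x, mx⟩ + ⟨y, my⟩ from rfl, smul_add', smul_add', ix, iy]⟩)
    (fun x ⟨mx, ix⟩ => ⟨neg_mem mx, fun hx => by
      rw [show (⟨-x, hx⟩ : leechLattice) = -⟨x, mx⟩ from rfl, smul_neg', smul_neg', ix]⟩)
    (fun l hl => ⟨mem_of_leechTest (List.all_eq_true.1 genList_ok l hl), fun hx => H _ l hl rfl⟩) v.2
  exact this.2 v.2

/-- An element acting by a matrix. -/
def Acts (g : Co0) (M : List (List (ℕ × ℤ))) : Prop :=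
  ∀ v : leechLattice, ((g • v : leechLattice) : GolayPt → ℤ) = applyMat M v

theorem Acts.img {g : Co0} {M : List (List (ℕ × ℤ))} (hg : Acts g M) {v : leechLattice} {l : List ℤ}
    (h : (v : GolayPt → ℤ) = toVec l) :
    ((g • v : leechLattice) : GolayPt → ℤ) = toVec (imgList M l) := by
  rw [hg, h, applyMat_toVec]

/-- The matrix conjugates one kernel element to another up to a sign. -/
def conjOk (M : List (List (ℕ × ℤ))) (k : ℕ × ℕ) (k' : Bool × ℕ × ℕ) : Bool :=
  genList.all fun l => imgList M (kImg k.1 k.2 l) == sgnL k'.1 (kImg k'.2.1 k'.2.2 (imgList M l))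

theorem conj_of_ok {g : Co0} {M : List (List (ℕ × ℤ))} (hg : Acts g M) {a a' : Fin 16} {b b' : Fin 32}
    {s : Bool} (h : conjOk M (a.val, b.val) (s, a'.val, b'.val) = true) :
    g * kEl a b * g⁻¹ = sgnEl s * kEl a' b' := by
  rw [mul_inv_eq_iff_eq_mul]
  refine ext_gen fun v l hl hv => Subtype.ext ?_
  simp only [mul_smul]
  rw [hg.img (kImg_spec a b hv), sgn_spec s (kImg_spec a' b' (hg.img hv))]
  simp only [conjOk, List.all_eq_true, beq_iff_eq] at h
  rw [h l hl]

/-- The powers of a matrix. -/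
def powImg (M : List (List (ℕ × ℤ))) : ℕ → List ℤ → List ℤ
  | 0, l => l
  | n + 1, l => imgList M (powImg M n l)

theorem Acts.pow_img {g : Co0} {M : List (List (ℕ × ℤ))} (hg : Acts g M) {v : leechLattice} {l : List ℤ}
    (h : (v : GolayPt → ℤ) = toVec l) :
    ∀ n : ℕ, (((g ^ n) • v : leechLattice) : GolayPt → ℤ) = toVec (powImg M n l)
  | 0 => by rw [pow_zero, one_smul]; exact h
  | n + 1 => by rw [pow_succ', mul_smul]; exact hg.img (hg.pow_img h n)

theorem trP_mul_of {a a' c : Fin 16}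
    (h : ∀ i < 24, (tr c.val).getD i 0 = (tr a.val).getD ((tr a'.val).getD i 0) 0) :
    trP a * trP a' = trP c :=
  Equiv.ext fun p => ptEquiv.injective (Fin.ext (by
    rw [Equiv.Perm.mul_apply, trP_apply, trP_apply, trP_apply]
    exact (h _ (ptEquiv p).isLt).symm))

theorem exists_prod (a a' : Fin 16) (b b' : Fin 32) : ∃ (c : Fin 16) (d : Fin 32),
    kEl a b * kEl a' b' = kEl c d ∧ kBit c.val d.val = kBit a.val b.val ^^^ kBit a'.val b'.val := by
  obtain ⟨c, hc, e1, e2⟩ := tr_mul_ok _ a.isLt _ a'.isLt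
  obtain ⟨d0, hd0, f1, f2⟩ := dc_xor_ok.1 _ b.isLt _ b'.isLt
  obtain ⟨h1, hk⟩ := kEl_mul a a' b b'
  have key : ∀ d < 32, dc d = dc b.val ^^^ imgMask (tr a.val) (dc b'.val) →
      bbTab.getD d 0 = bbTab.getD b.val 0 ^^^ bbTab.getD b'.val 0 →
      ∃ (c : Fin 16) (d : Fin 32), kEl a b * kEl a' b' = kEl c d ∧
        kBit c.val d.val = kBit a.val b.val ^^^ kBit a'.val b'.val := by
    intro d hd g1 g2
    refine ⟨⟨c, hc⟩, ⟨d, hd⟩, ?_, ?_⟩
    · rw [hk, kEl]
      exact monoAut_congr (trP_mul_of e2) (by rw [g1])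
    · simp only [kBit, e1, g2]
      ac_rfl
  rcases dc_move _ a.isLt _ b'.isLt with u | u
  · refine key d0 hd0 ?_ f2
    rw [f1]
    congr 1
    apply Nat.eq_of_testBit_eq
    intro i
    have hu := congrArg (fun n => n.testBit i) u
    simp only [Nat.testBit_xor, Nat.zero_testBit] at hu
    revert hu
    cases (imgMask (tr a.val) (dc b'.val)).testBit i <;> cases (dc b'.val).testBit i <;> simp
  · obtain ⟨d, hd, g1, g2⟩ := dc_xor_ok.2 _ hd0
    refine key d hd ?_ (g2.trans f2)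
    rw [g1, f1, ← u]
    apply Nat.eq_of_testBit_eq
    intro i
    simp only [Nat.testBit_xor]
    cases (dc b.val).testBit i <;> cases (dc b'.val).testBit i <;>
      cases (imgMask (tr a.val) (dc b'.val)).testBit i <;> rfl

theorem kEl_sq_quad (a : Fin 16) (b : Fin 32) :
    kEl a b * kEl a b = if quadN (kBit a.val b.val) then tAut else 1 := by
  obtain ⟨h, e⟩ := kEl_mul a a b b
  have hq := quad_ok _ a.isLt _ b.isLt
  rw [e]
  split <;> rename_i hx
  · rw [if_pos hx] at hq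
    rw [tAut_eq_mono]
    exact monoAut_congr (trP_sq a) (by rw [hq])
  · rw [if_neg hx] at hq
    rw [← monoAut_one]
    refine monoAut_congr (trP_sq a) ?_
    rw [hq]
    ext p; simp [mem_toSet]

theorem kEl_one_exists : ∃ b : Fin 32, kEl 0 b = 1 ∧ dc b.val = 0 := by
  obtain ⟨b0, hb0⟩ := exists_dc_zero
  refine ⟨b0, ?_, hb0⟩
  rw [kEl, ← monoAut_one]
  exact monoAut_congr trP_zero (by rw [hb0]; ext p; simp [mem_toSet])

theorem eq_of_bit_zero {a : Fin 16} {b : Fin 32} (h : kBit a.val b.val = 0) :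
    kEl a b = 1 ∨ kEl a b = tAut := by
  obtain ⟨ha, hb⟩ := kBit_zero_ok _ a.isLt _ b.isLt h
  obtain rfl : a = 0 := Fin.ext ha
  rcases hb with hb | hb
  · refine Or.inl ?_
    rw [kEl, ← monoAut_one]
    exact monoAut_congr trP_zero (by rw [hb]; ext p; simp [mem_toSet])
  · refine Or.inr ?_
    rw [kEl, tAut_eq_mono]
    exact monoAut_congr trP_zero (by rw [hb])

theorem kEl_injective {a a' : Fin 16} {b b' : Fin 32} (h : kEl a b = kEl a' b') : a = a' ∧ b = b' := by
  have := @kC_injective (a, b) (a', b') (Subtype.ext h)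
  exact ⟨congrArg Prod.fst this, congrArg Prod.snd this⟩

/-! ### The coordinates on the kernel -/

theorem exists_rep (g : toO.ker) : ∃ p : Fin 16 × Fin 32,
    ((g : cent0) : Co0) = kEl p.1 p.2 ∨ ((g : cent0) : Co0) = negAut * kEl p.1 p.2 := by
  obtain ⟨a, b, h⟩ := mem_ker_toO.1 g.2
  exact ⟨(a, b), h⟩

theorem kEl_ne_neg' (a a' : Fin 16) (b b' : Fin 32) : kEl a b ≠ negAut * kEl a' b' := fun e => by
  have h := congrArg (fun g : Co0 => g • rootW 0) e
  simp only [mul_smul, kEl_fix, neg_smul'] at h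
  exact rootW_ne.2 h

theorem neg_eq_self' (v : Fin 4 ⊕ Fin 4 → ZMod 2) : -v = v := funext fun i => CharTwo.neg_eq (v i)

/-- The coordinates of an element of the kernel. -/
noncomputable def kx (g : toO.ker) : Fin 4 ⊕ Fin 4 → ZMod 2 :=
  vecE (kBit (exists_rep g).choose.1.val (exists_rep g).choose.2.val)

theorem kx_eq {g : toO.ker} {a : Fin 16} {b : Fin 32}
    (h : ((g : cent0) : Co0) = kEl a b ∨ ((g : cent0) : Co0) = negAut * kEl a b) :
    kx g = vecE (kBit a.val b.val) := by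
  have hs := (exists_rep g).choose_spec
  rw [kx]
  generalize (exists_rep g).choose = p at hs ⊢
  suffices p.1 = a ∧ p.2 = b by rw [this.1, this.2]
  rcases hs with hs | hs <;> rcases h with h | h <;> rw [hs] at h
  · exact kEl_injective h
  · exact absurd h (kEl_ne_neg' _ _ _ _)
  · exact absurd h.symm (kEl_ne_neg' _ _ _ _)
  · exact kEl_injective (mul_left_cancel h)

theorem kx_mul (g h : toO.ker) : kx (g * h) = kx g + kx h := by
  obtain ⟨⟨a, b⟩, hg⟩ := exists_rep g
  obtain ⟨⟨a', b'⟩, hh⟩ := exists_rep h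
  obtain ⟨c, d, e1, e2⟩ := exists_prod a a' b b'
  rw [kx_eq hg, kx_eq hh, ← vecE_xor, ← e2]
  refine kx_eq ?_
  have hgh : (((g * h : toO.ker) : cent0) : Co0) = ((g : cent0) : Co0) * ((h : cent0) : Co0) := rfl
  rcases hg with hg | hg <;> rcases hh with hh | hh <;> rw [hgh, hg, hh]
  · exact Or.inl e1
  · exact Or.inr (by rw [← mul_assoc, ← negAut_comm, mul_assoc, e1])
  · exact Or.inr (by rw [mul_assoc, e1])
  · exact Or.inl (by rw [← mul_assoc, mul_assoc negAut, ← negAut_comm, ← mul_assoc, negAut_sq, one_mul, e1])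

theorem kx_one : kx 1 = 0 := by
  have := kx_mul 1 1
  rw [one_mul] at this
  exact left_eq_add.1 this

theorem kx_inv (g : toO.ker) : kx g⁻¹ = kx g := by
  have := kx_mul g g⁻¹
  rw [mul_inv_cancel, kx_one] at this
  exact (eq_neg_of_add_eq_zero_right this.symm).trans (neg_eq_self' _)

/-- The four central elements. -/
def IsZeta (z : Co0) : Prop := z = 1 ∨ z = tAut ∨ z = negAut ∨ z = negAut * tAut

theorem IsZeta.comm {z : Co0} (hz : IsZeta z) {g : Co0} (hg : g ∈ cent0) : z * g = g * z := by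
  have ht : tAut * g = g * tAut := (Subgroup.mem_centralizer_singleton_iff.1 hg).symm
  rcases hz with rfl | rfl | rfl | rfl
  · rw [one_mul, mul_one]
  · exact ht
  · exact negAut_comm g
  · rw [mul_assoc, ht, ← mul_assoc, negAut_comm, mul_assoc]

theorem IsZeta.sq {z : Co0} (hz : IsZeta z) : z * z = 1 := by
  rcases hz with rfl | rfl | rfl | rfl
  · rw [one_mul]
  · exact tAut_mul_self
  · exact negAut_sq
  · rw [mul_assoc, ← mul_assoc tAut, ← negAut_comm, mul_assoc, tAut_mul_self, mul_one, negAut_sq]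

theorem kx_eq_zero {g : toO.ker} (h : kx g = 0) : IsZeta ((g : cent0) : Co0) := by
  obtain ⟨⟨a, b⟩, hg⟩ := exists_rep g
  rw [kx_eq hg] at h
  have hz : kBit a.val b.val = 0 :=
    vecE_injOn _ (kBit_lt _ a.isLt _ b.isLt) _ (by norm_num) (h.trans (by funext k; simp [vecE]))
  rcases eq_of_bit_zero hz with e | e <;> rcases hg with hg | hg <;> rw [e] at hg <;> rw [hg, IsZeta]
  · exact Or.inl rfl
  · exact Or.inr (Or.inr (Or.inl (mul_one _)))
  · exact Or.inr (Or.inl rfl)
  · exact Or.inr (Or.inr (Or.inr rfl))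

/-- A kernel element. -/
noncomputable def kK (a : Fin 16) (b : Fin 32) : toO.ker :=
  ⟨⟨kEl a b, kEl_mem0 a b⟩, mem_ker_toO.2 ⟨a, b, Or.inl rfl⟩⟩

theorem kx_kK (a : Fin 16) (b : Fin 32) : kx (kK a b) = vecE (kBit a.val b.val) := kx_eq (Or.inl rfl)

theorem kx_surj (v : Fin 4 ⊕ Fin 4 → ZMod 2) : ∃ a b, kx (kK a b) = v := by
  obtain ⟨x, hx, rfl⟩ := exists_vecE v
  obtain ⟨a, ha, b, hb, e⟩ := kBit_onto x hx
  exact ⟨⟨a, ha⟩, ⟨b, hb⟩, by rw [kx_kK, e]⟩

theorem sq_of_quad (g : toO.ker) :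
    ((g : cent0) : Co0) * ((g : cent0) : Co0) = if Q8 (kx g) = 1 then tAut else 1 := by
  obtain ⟨⟨a, b⟩, hg⟩ := exists_rep g
  rw [kx_eq hg, Q8_vecE]
  have h1 : ((g : cent0) : Co0) * ((g : cent0) : Co0) = kEl a b * kEl a b := by
    rcases hg with hg | hg <;> rw [hg]
    rw [mul_assoc, ← mul_assoc (kEl a b), ← negAut_comm, mul_assoc negAut (kEl a b), ← mul_assoc,
      negAut_sq, one_mul]
  rw [h1, kEl_sq_quad]
  cases quadN (kBit a.val b.val) <;> simp [boolZ]

end CfsgLib.Leech.CoSections
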