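import Cfsg.Agent.Lib.Leech.CoSections.Action
import Cfsg.Agent.Lib.Classical.QuadStd

/-!
# Coordinates adapted to an element of odd prime order
-/

set_option autoImplicit false
set_option maxRecDepth 100000

namespace CfsgLib.Leech.CoSections

open Cfsg CfsgLib.Golay CfsgLib.Leech CfsgLib.Leech.CoTwo CfsgLib.Leech.CoOne Matrix CfsgLib.Classical

/-- The sign change as a kernel element. -/
def tIdx : Fin 32 := 31

theorem dc_tIdx : dc tIdx.val = outMask := by decide +kernel

theorem kEl_tIdx : kEl 0 tIdx = tAut := by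
  rw [kEl, tAut_eq_mono]
  exact monoAut_congr trP_zero (by rw [dc_tIdx])

theorem kBit_tIdx : kBit 0 tIdx.val = 0 := by decide +kernel

/-- The entry of a bit string. -/
def bitZ (x i : ℕ) : ZMod 2 := boolZ (x.testBit i)

theorem bitZ_xor (x y i : ℕ) : bitZ (x ^^^ y) i = bitZ x i + bitZ y i := by
  simp only [bitZ, Nat.testBit_xor]
  exact boolZ_xor _ _

/-- The linear combination of bit strings selected by a bit string. -/
def linN (img : List ℕ) : ℕ → ℕ → ℕ
  | 0, _ => 0
  | n + 1, x => if x.testBit n then linN img n x ^^^ img.getD n 0 else linN img n x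

theorem bitZ_linN (img : List ℕ) (x k : ℕ) : ∀ n,
    bitZ (linN img n x) k = ∑ i ∈ Finset.range n, bitZ x i * bitZ (img.getD i 0) k
  | 0 => by simp [linN, bitZ, boolZ]
  | n + 1 => by
    rw [Finset.sum_range_succ, ← bitZ_linN img x k n, linN]
    by_cases h : x.testBit n = true
    · rw [if_pos h, bitZ_xor]; simp [bitZ, boolZ, h]
    · rw [if_neg h]; simp [bitZ, boolZ, h]

/-- The linear map of a list of images. -/
def linMapN {κ μ : Type} (img : List ℕ) (n : ℕ) (coord : ℕ → κ) (pos : μ → ℕ) :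
    (κ → ZMod 2) →ₗ[ZMod 2] (μ → ZMod 2) where
  toFun v k := ∑ i ∈ Finset.range n, v (coord i) * bitZ (img.getD i 0) (pos k)
  map_add' v w := funext fun k => by simp [add_mul, Finset.sum_add_distrib]
  map_smul' c v := funext fun k => by simp [Finset.mul_sum, mul_assoc]

theorem vecE_apply (x : ℕ) (k : Fin 4 ⊕ Fin 4) : vecE x k = bitZ x (posE k) := rfl

/-- The coordinate at a position. -/
def coordE (i : ℕ) : Fin 4 ⊕ Fin 4 :=
  if i < 4 then .inl ⟨i % 4, Nat.mod_lt _ (by norm_num)⟩ else .inr ⟨(i - 4) % 4, Nat.mod_lt _ (by norm_num)⟩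

theorem posE_coordE : ∀ i < 8, posE (coordE i) = i := by decide

/-- The index set of the fixed space. -/
abbrev ιI (m : ℕ) : Type := (Fin m ⊕ Fin m) ⊕ Fin 2

/-- The position of a coordinate of the fixed space. -/
def posI (m : ℕ) : ιI m → ℕ :=
  Sum.elim (Sum.elim (fun i => i.val) fun i => m + i.val) fun j => 2 * m + j.val

/-- The coordinate at a position of the fixed space. -/
def coordI (m : ℕ) (i : ℕ) : ιI m :=
  if h : i < m then .inl (.inl ⟨i, h⟩)
  else if h' : i < 2 * m then .inl (.inr ⟨i - m, by omega⟩)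
  else .inr (if i = 2 * m then 0 else 1)

theorem posI_coordI {m i : ℕ} (hi : i < 2 * m + 2) : posI m (coordI m i) = i := by
  unfold coordI
  split
  · rfl
  · split
    · show m + (i - m) = i; omega
    · split
      · show 2 * m + 0 = i; omega
      · show 2 * m + 1 = i; omega

theorem posI_lt {m : ℕ} (k : ιI m) : posI m k < 2 * m + 2 := by
  rcases k with (i | i) | j <;> simp [posI] <;> omega

theorem coordI_posI {m : ℕ} (k : ιI m) : coordI m (posI m k) = k := by
  rcases k with (i | i) | j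
  · simp [posI, coordI, i.isLt]
  · have : ¬ m + i.val < m := by omega
    have h' : m + i.val < 2 * m := by omega
    simp [posI, coordI, this, h']
  · have h1 : ¬ 2 * m + j.val < m := by omega
    have h2 : ¬ 2 * m + j.val < 2 * m := by omega
    fin_cases j <;> simp [posI, coordI, h1, h2] <;> omega

/-- The vector of a bit string in the fixed space. -/
def vecI (m : ℕ) (x : ℕ) : ιI m → ZMod 2 := fun k => bitZ x (posI m k)

theorem vecI_xor (m x y : ℕ) : vecI m (x ^^^ y) = vecI m x + vecI m y :=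
  funext fun _ => bitZ_xor _ _ _

theorem boolZ_inj {a b : Bool} (h : boolZ a = boolZ b) : a = b := by
  cases a <;> cases b <;> simp_all [boolZ]

theorem vecI_injOn {m x y : ℕ} (hx : x < 2 ^ (2 * m + 2)) (hy : y < 2 ^ (2 * m + 2))
    (h : vecI m x = vecI m y) : x = y := by
  refine Nat.eq_of_testBit_eq fun i => ?_
  by_cases hi : i < 2 * m + 2
  · have := congrFun h (coordI m i)
    simp only [vecI, posI_coordI hi, bitZ] at this
    exact boolZ_inj this
  · rw [Nat.testBit_lt_two_pow (lt_of_lt_of_le hx (Nat.pow_le_pow_right (by norm_num) (by omega))),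
      Nat.testBit_lt_two_pow (lt_of_lt_of_le hy (Nat.pow_le_pow_right (by norm_num) (by omega)))]

theorem exists_vecI (m : ℕ) (v : ιI m → ZMod 2) : ∃ x < 2 ^ (2 * m + 2), vecI m x = v := by
  have hb : Function.Bijective fun x : Fin (2 ^ (2 * m + 2)) => vecI m x.val := by
    refine (Fintype.bijective_iff_injective_and_card _).2 ⟨fun x y h => Fin.ext (vecI_injOn x.isLt y.isLt h), ?_⟩
    simp [two_mul]
  obtain ⟨x, hx⟩ := hb.2 v
  exact ⟨x.val, x.isLt, hx⟩

/-- The quadratic form of minus type. -/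
noncomputable abbrev Qm (m : ℕ) : QuadraticForm (ZMod 2) (ιI m → ZMod 2) := qExt m (qBin 1 1)

/-- The quadratic form on bit strings. -/
def quadI (m x : ℕ) : Bool :=
  if m = 1 then (x.testBit 0 && x.testBit 1) != (x.testBit 2 || x.testBit 3)
  else ((x.testBit 0 && x.testBit 2) != (x.testBit 1 && x.testBit 3)) != (x.testBit 4 || x.testBit 5)

/-- The bilinear form on bit strings. -/
def polI (m x y : ℕ) : Bool := (quadI m (x ^^^ y) != quadI m x) != quadI m y

/-- The reflection on bit strings. -/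
def reflI (m v x : ℕ) : ℕ := if polI m x v then x ^^^ v else x

theorem boolZ_or (a b : Bool) : boolZ (a || b) = boolZ a ^ 2 + 1 * boolZ a * boolZ b + 1 * boolZ b ^ 2 := by
  cases a <;> cases b <;> decide

theorem Qm_vecI {m : ℕ} (hm : m = 1 ∨ m = 2) (x : ℕ) : Qm m (vecI m x) = boolZ (quadI m x) := by
  rw [coe_qExt_qBin]
  rcases hm with rfl | rfl
  · simp only [quadI, if_true, boolZ_xor, boolZ_and, boolZ_or, Cfsg.quadFormMinus, Fin.sum_univ_one]
    rfl
  · simp only [quadI, show ¬ (2 = 1) by norm_num, if_false, boolZ_xor, boolZ_and, boolZ_or,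
      Cfsg.quadFormMinus, Fin.sum_univ_two]
    rfl

theorem polar_vecI {m : ℕ} (hm : m = 1 ∨ m = 2) (x y : ℕ) :
    QuadraticMap.polar (Qm m) (vecI m x) (vecI m y) = boolZ (polI m x y) := by
  rw [QuadraticMap.polar, ← vecI_xor, Qm_vecI hm, Qm_vecI hm, Qm_vecI hm, polI, boolZ_xor, boolZ_xor]
  simp [sub_eq_add_neg, CharTwo.neg_eq]

/-- The data. -/
structure Cfg where
  r : ℕ
  m : ℕ
  aMat : List (List (ℕ × ℤ))
  gMat : List (List (ℕ × ℤ))
  conj : Bool × ℕ × ℕ
  units : List (Bool × ℕ × ℕ)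
  aImg : List ℕ
  eImg : List ℕ
  pImg : List ℕ
  vecs : ℕ × ℕ
  wit : List (List ℕ)

namespace Cfg

variable (c : Cfg)

/-- The dimension of the fixed space. -/
abbrev dim : ℕ := 2 * c.m + 2

/-- The action on bit strings. -/
def aN (x : ℕ) : ℕ := linN c.aImg 8 x

/-- The embedding of the fixed space. -/
def eN (x : ℕ) : ℕ := linN c.eImg c.dim x

/-- The projection to the fixed space. -/
def pN (x : ℕ) : ℕ := linN c.pImg 8 x

/-- The orbit of the moved vector. -/
def orbN : ℕ → ℕ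
  | 0 => c.vecs.1
  | i + 1 => c.aN (orbN i)

/-- A kernel element has fixed coordinates. -/
def fixedBit (p : Fin 16 × Fin 32) : Bool :=
  c.eN (c.pN (kBit p.1.val p.2.val)) == kBit p.1.val p.2.val

/-- The witness writes a unit string as a sum of two images of the conjugate. -/
def witOk (i : ℕ) : Bool :=
  let w := c.wit.getD i []
  let f := fun u v => reflI c.m u (reflI c.m v c.vecs.2)
  ((List.range w.length).all fun j => decide (w.getD j 0 < 2 ^ c.dim) && quadI c.m (w.getD j 0)) &&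
    ((w.length == 2 && f (w.getD 0 0) (w.getD 1 0) == 2 ^ i) ||
      (w.length == 4 && f (w.getD 0 0) (w.getD 1 0) ^^^ f (w.getD 2 0) (w.getD 3 0) == 2 ^ i))

/-- The finite checks. -/
structure Ok : Prop where
  prime : c.r.Prime
  odd : c.r % 2 = 1
  hm : c.m = 1 ∨ c.m = 2
  matA : matCheck c.aMat (trMat c.aMat) = true
  matA' : matCheck (trMat c.aMat) c.aMat = true
  matG : matCheck c.gMat (trMat c.gMat) = true
  matG' : matCheck (trMat c.gMat) c.gMat = true
  powA : (genList.all fun l => powImg c.aMat c.r l == l) = true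
  commG : (genList.all fun l => imgList c.aMat (imgList c.gMat l) == imgList c.gMat (imgList c.aMat l)) = true
  commT : conjOk c.aMat (0, tIdx.val) (false, 0, tIdx.val) = true
  gT : conjOk c.gMat (0, tIdx.val) c.conj = true
  conj_lt : c.conj.2.1 < 16 ∧ c.conj.2.2 < 32
  units : ∀ i < 8, (unitKer.getD i (0, 0)).1 < 16 ∧ (unitKer.getD i (0, 0)).2 < 32 ∧
    (c.units.getD i (false, 0, 0)).2.1 < 16 ∧ (c.units.getD i (false, 0, 0)).2.2 < 32 ∧
    conjOk c.aMat (unitKer.getD i (0, 0)) (c.units.getD i (false, 0, 0)) = true ∧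
    kBit (unitKer.getD i (0, 0)).1 (unitKer.getD i (0, 0)).2 = 2 ^ i ∧
    kBit (c.units.getD i (false, 0, 0)).2.1 (c.units.getD i (false, 0, 0)).2.2 = c.aImg.getD i 0
  emb : ∀ x < 2 ^ c.dim, c.pN (c.eN x) = x ∧ c.eN x < 256 ∧ c.aN (c.eN x) = c.eN x ∧
    quadN (c.eN x) = quadI c.m x
  proj : ∀ x < 256, c.pN x < 2 ^ c.dim ∧ c.aN x < 256 ∧ c.pN (c.aN x) = c.pN x ∧
    quadN x = (quadI c.m (c.pN x) != quadN (x ^^^ c.eN (c.pN x))) ∧ (c.aN x = x → c.eN (c.pN x) = x)
  moved : ∀ x < 256, c.pN x = 0 → ∃ u < 256, c.aN u ^^^ u = x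
  vec_ok : c.vecs.1 < 256 ∧ c.pN c.vecs.1 = 0 ∧ c.vecs.1 ≠ 0
  orbit : ∀ x < 256, c.pN x = 0 → quadN x = quadN c.vecs.1 → x = 0 ∨ ∃ i < c.r, c.orbN i = x
  spanned : ∀ x < 256, c.pN x = 0 → x = 0 ∨ ∃ i < c.r, x = c.orbN i ∨ ∃ j < c.r, x = c.orbN i ^^^ c.orbN j
  conjVec : c.vecs.2 < 2 ^ c.dim ∧ c.vecs.2 ≠ 0 ∧ c.eN c.vecs.2 = kBit c.conj.2.1 c.conj.2.2
  wits : ∀ i < c.dim, c.witOk i = true
  exists_pol : ∃ u < 2 ^ c.dim, polI c.m u c.vecs.2 = true
  exists_pair : ∃ u < 2 ^ c.dim, ∃ v < 2 ^ c.dim,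
    polI c.m u v = true ∧ polI c.m u c.vecs.2 = false ∧ polI c.m v c.vecs.2 = false
  exists_refl : ∃ u < 2 ^ c.dim, quadI c.m u = true
  nondeg : ∀ x < 2 ^ c.dim, x = 0 ∨ ∃ y < 2 ^ c.dim, polI c.m x y = true
  count : (Finset.univ.filter fun p => c.fixedBit p = true).card = 2 ^ (c.dim + 1)

end Cfg

end CfsgLib.Leech.CoSections
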