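import Cfsg.Agent.Lib.Leech.CoSections.Config

/-!
# The element of order three
-/

set_option autoImplicit false
set_option maxRecDepth 100000

namespace CfsgLib.Leech.CoSections

open CfsgLib.Leech.CoTwo

/-- The data for order three. -/
def cfgThree : Cfg where
  r := 3
  m := 2
  aMat := threeA
  gMat := threeG
  conj := threeConj
  units := threeUnits
  aImg := threeAImg
  eImg := threeEImg
  pImg := threePImg
  vecs := threeVec
  wit := threeWit

theorem cfgThree_ok : cfgThree.Ok where
  prime := Nat.prime_three
  odd := rfl
  hm := Or.inr rfl
  matA := by decide +kernel
  matA' := by decide +kernel
  matG := by decide +kernel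
  matG' := by decide +kernel
  powA := by decide +kernel
  commG := by decide +kernel
  commT := by decide +kernel
  gT := by decide +kernel
  conj_lt := by decide +kernel
  units := by decide +kernel
  emb := by decide +kernel
  proj := by decide +kernel
  moved := by decide +kernel
  vec_ok := by decide +kernel
  orbit := by decide +kernel
  spanned := by decide +kernel
  conjVec := by decide +kernel
  wits := by decide +kernel
  exists_pol := by decide +kernel
  exists_pair := by decide +kernel
  exists_refl := by decide +kernel
  nondeg := by decide +kernel
  count := by decide +kernel

end CfsgLib.Leech.CoSections
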