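import Cfsg.Agent.Lib.Leech.CoSections.Main
import Cfsg.Agent.Lib.Leech.CoSections.Three
import Cfsg.Agent.Lib.Leech.CoSections.Five
import Cfsg.Agent.Lib.Classical.SmallIso.MinusFourTwo
import Cfsg.Agent.Lib.Classical.QuadPOmega

/-!
# The two sections
-/

set_option autoImplicit false
set_option maxRecDepth 100000

namespace CfsgLib.Leech.CoSections

open Cfsg CfsgLib.Classical

theorem binAniso_two : BinAniso (1 : ZMod 2) 1 := by
  intro x y h
  revert x y
  decide

theorem polarNondeg_Qm (m : ℕ) : PolarNondeg (Qm m) :=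
  polarNondeg_qExt (polarNondeg_qBin binAniso_two) m

theorem commutator_iso (m : ℕ) :
    Nonempty (↥(commutator (qAut (Qm m))) ≃* ↥(Omega (ZMod 2) ⇑(Qm m))) :=
  ⟨(((isoEquiv (Qm m)).subgroupMap (Omega (ZMod 2) ⇑(Qm m))).trans
    (MulEquiv.subgroupCongr (map_commutator_equiv (isoEquiv (Qm m))))).symm⟩

theorem simple_of_iso {G H : Type*} [Group G] [Group H] (e : G ≃* H) [IsSimpleGroup H] : IsSimpleGroup G :=
  e.isSimpleGroup

theorem omega_two_facts : (commutator (qAut (Qm 2))).index = 2 ∧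
    IsSimpleGroup ↥(commutator (qAut (Qm 2))) ∧ ¬ IsPGroup 2 ↥(commutator (qAut (Qm 2))) := by
  have hQ := polarNondeg_Qm 2
  have hidx : (commutator (qAut (Qm 2))).index = 2 :=
    index_commutator_two _ hQ (by rw [Module.finrank_pi]; decide)
      (Or.inr (by rw [Module.finrank_pi]; decide))
  have hZ : Subgroup.center (Omega (ZMod 2) ⇑(Qm 2)) = ⊥ := Subgroup.card_eq_one.1
    (card_center_Omega_one (Qm 2) hQ (by decide) fun _ => by decide)
  haveI := isSimpleGroup_POmega (Qm 2) hQ (by decide)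
  haveI : IsSimpleGroup (Omega (ZMod 2) ⇑(Qm 2)) :=
    ((QuotientGroup.quotientMulEquivOfEq hZ).trans QuotientGroup.quotientBot).symm.isSimpleGroup
  obtain ⟨e⟩ := commutator_iso 2
  haveI hs := simple_of_iso e
  refine ⟨hidx, hs, fun hP => ?_⟩
  haveI : Finite (qAut (Qm 2)) := finite_qAut _
  haveI := hP.center_nontrivial
  have hc : Subgroup.center ↥(commutator (qAut (Qm 2))) = ⊤ :=
    (IsSimpleGroup.eq_bot_or_eq_top_of_normal _ inferInstance).resolve_left
      ((Subgroup.nontrivial_iff_ne_bot _).1 inferInstance)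
  have hZ' : Subgroup.center (Omega (ZMod 2) ⇑(Qm 2)) = ⊤ := by
    refine eq_top_iff.2 fun x _ => Subgroup.mem_center_iff.2 fun y => e.symm.injective ?_
    rw [map_mul, map_mul]
    exact Subgroup.mem_center_iff.1 (hc ▸ Subgroup.mem_top (e.symm x)) _
  exact bot_ne_top (hZ.symm.trans hZ')

theorem omega_one_facts : (commutator (qAut (Qm 1))).index = 2 ∧
    IsSimpleGroup ↥(commutator (qAut (Qm 1))) ∧ ¬ IsPGroup 2 ↥(commutator (qAut (Qm 1))) := by
  obtain ⟨φ0⟩ := SmallIso.minus_four_two (F := ZMod 2) (ZMod.card 2)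
  rw [← coe_qExt_qBin] at φ0
  let φ : qAut (Qm 1) ≃* Equiv.Perm (Fin 5) := (isoEquiv (Qm 1)).symm.trans φ0
  have h5 : commutator (Equiv.Perm (Fin 5)) = alternatingGroup (Fin 5) :=
    alternatingGroup.commutator_perm_eq (by simp)
  have hidx : (commutator (qAut (Qm 1))).index = 2 := by
    rw [index_commutator_congr φ, h5, alternatingGroup.index_eq_two]
  let e : ↥(commutator (qAut (Qm 1))) ≃* ↥(alternatingGroup (Fin 5)) :=
    (φ.subgroupMap (commutator (qAut (Qm 1)))).trans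
      (MulEquiv.subgroupCongr ((map_commutator_equiv φ).trans h5))
  haveI : IsSimpleGroup ↥(alternatingGroup (Fin 5)) := alternatingGroup.isSimpleGroup_five
  refine ⟨hidx, simple_of_iso e, fun hP => ?_⟩
  haveI : Finite (qAut (Qm 1)) := finite_qAut _
  obtain ⟨k, hk⟩ := IsPGroup.iff_card.1 hP
  rw [Nat.card_congr e.toEquiv, nat_card_alternatingGroup, Nat.card_fin] at hk
  have : 3 ∣ 2 ^ k := hk ▸ by decide
  exact absurd (Nat.Prime.dvd_of_dvd_pow Nat.prime_three this) (by norm_num)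

/-- The conclusion for a configuration. -/
theorem section_exists {c : Cfg} (h : c.Ok)
    (hfacts : (commutator (qAut (Qm c.m))).index = 2 ∧ IsSimpleGroup ↥(commutator (qAut (Qm c.m))) ∧
      ¬ IsPGroup 2 ↥(commutator (qAut (Qm c.m)))) :
    ∃ A : Subgroup ↥Co0, Nat.card A = c.r ∧
      ∃ (_hn : ((A ⊔ Subgroup.center ↥Co0).subgroupOf (Subgroup.centralizer (A : Set ↥Co0))).Normal),
      ∃ (S : Type) (_ : Group S) (_ : Finite S),
      Nonempty (S ≃* ↥(Subgroup.centralizer (A : Set ↥Co0)) ⧸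
        (A ⊔ Subgroup.center ↥Co0).subgroupOf (Subgroup.centralizer (A : Set ↥Co0))) ∧
      IsSimpleGroup S ∧ ¬ IsMulCommutative S ∧ ∃ z : S, orderOf z = 2 ∧
      ∃ (Q : Subgroup (Subgroup.centralizer ({z} : Set S))) (_ : Q.Normal),
        generalizedFittingSubgroup (Subgroup.centralizer ({z} : Set S)) = Q ∧ IsExtraspecial 2 Q ∧
        Nat.card Q = 2 ^ (2 * c.m + 3) ∧
        Nonempty ((Subgroup.centralizer ({z} : Set S)) ⧸ Q ≃* Omega (ZMod 2) (quadFormMinus c.m (ZMod 2) 1 1)) ∧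
        ∃ g : S, (∃ hq : g * z * g⁻¹ ∈ Subgroup.centralizer ({z} : Set S),
          (⟨g * z * g⁻¹, hq⟩ : Subgroup.centralizer ({z} : Set S)) ∈ Q) ∧ g * z * g⁻¹ ≠ z := by
  haveI : Finite Co0 := Nat.finite_of_card_ne_zero (by rw [card_co0]; norm_num)
  haveI hn := N0_normal h
  obtain ⟨h1, h2, h3⟩ := hfacts
  obtain ⟨hS1, hS2, hz, hF, hE, hc, hQ, hg⟩ := section_main h h1 h2 h3
  exact ⟨AG h, by rw [Nat.card_zpowers, orderOf_aCo h (aCo_ne_one h)], hn, Sec h, inferInstance,
    inferInstance, ⟨MulEquiv.refl _⟩, hS1, hS2, zS h, hz, (psiS h).ker, inferInstance, hF, hE, hc, hQ, hg⟩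

end CfsgLib.Leech.CoSections
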