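import Cfsg.Agent.Lib.Leech.CoSections.Restrict
import Cfsg.Agent.Lib.Leech.CoOne.Main
import Cfsg.Prelude.Def_Transfer

/-!
# The extraspecial subgroup centralising the element of odd order
-/

set_option autoImplicit false
set_option maxRecDepth 100000
set_option maxHeartbeats 400000

namespace CfsgLib.Leech.CoSections

open Cfsg CfsgLib.Golay CfsgLib.Leech CfsgLib.Leech.CoTwo CfsgLib.Leech.CoOne Matrix CfsgLib.Classical

theorem zmod_two (x : ZMod 2) : x = 0 ∨ x = 1 := by revert x; decide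

theorem comm_iff (k l : toO.ker) :
    ((k : cent0) : Co0) * ((l : cent0) : Co0) = ((l : cent0) : Co0) * ((k : cent0) : Co0) ↔
      QuadraticMap.polar Q8 (kx k) (kx l) = 0 := by
  have key : ∀ a c b d, (kEl a b * kEl c d = kEl c d * kEl a b ↔
      QuadraticMap.polar Q8 (kx (kK a b)) (kx (kK c d)) = 0) := by
    intro a c b d
    have s1 : kEl a b * kEl c d * (kEl a b * kEl c d) = _ := sq_of_quad (kK a b * kK c d)
    have s2 : kEl a b * kEl a b = _ := sq_of_quad (kK a b)
    have s3 : kEl c d * kEl c d = _ := sq_of_quad (kK c d)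
    rw [kx_mul] at s1
    have hp : Q8 (kx (kK a b) + kx (kK c d)) = Q8 (kx (kK a b)) + Q8 (kx (kK c d)) +
        QuadraticMap.polar Q8 (kx (kK a b)) (kx (kK c d)) := by rw [QuadraticMap.polar]; ring
    rw [hp] at s1
    rcases kEl_commutes a c b d with e | e
    · refine iff_of_true e ?_
      have h1 : kEl a b * kEl c d * (kEl a b * kEl c d) = kEl a b * kEl a b * (kEl c d * kEl c d) := by
        rw [mul_assoc, ← mul_assoc (kEl c d), ← e]; group
      rw [h1, s2, s3] at s1
      revert s1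
      rcases zmod_two (Q8 (kx (kK a b))) with u | u <;> rcases zmod_two (Q8 (kx (kK c d))) with v | v <;>
        rcases zmod_two (QuadraticMap.polar Q8 (kx (kK a b)) (kx (kK c d))) with x | x <;>
        simp [u, v, x, tAut_ne_one, Ne.symm tAut_ne_one, tAut_mul_self, CharTwo.add_self_eq_zero]
    · have ht : tAut * kEl a b = kEl a b * tAut :=
        (show IsZeta tAut from Or.inr (Or.inl rfl)).comm (kEl_mem0 a b)
      have e' : kEl c d * kEl a b = tAut * (kEl a b * kEl c d) := by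
        rw [e, ← mul_assoc, tAut_mul_self, one_mul]
      have h1 : kEl a b * kEl c d * (kEl a b * kEl c d) = tAut * (kEl a b * kEl a b * (kEl c d * kEl c d)) := by
        rw [mul_assoc, ← mul_assoc (kEl c d), e', ← mul_assoc (kEl a b), ← mul_assoc (kEl a b) tAut, ← ht]
        group
      refine iff_of_false (fun e2 => ?_) ?_
      · rw [e2] at e
        exact tAut_ne_one (right_eq_mul.1 e)
      rw [h1, s2, s3] at s1
      revert s1
      rcases zmod_two (Q8 (kx (kK a b))) with u | u <;> rcases zmod_two (Q8 (kx (kK c d))) with v | v <;>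
        rcases zmod_two (QuadraticMap.polar Q8 (kx (kK a b)) (kx (kK c d))) with x | x <;>
        simp [u, v, x, tAut_ne_one, Ne.symm tAut_ne_one, tAut_mul_self, CharTwo.add_self_eq_zero]
  obtain ⟨⟨a, b⟩, hk⟩ := exists_rep k
  obtain ⟨⟨a', b'⟩, hl⟩ := exists_rep l
  rw [kx_eq hk, kx_eq hl, ← kx_kK a b, ← kx_kK a' b', ← key a a' b b']
  have hn : ∀ x y : Co0, (negAut * x) * y = negAut * (x * y) := fun x y => mul_assoc _ _ _
  have hn' : ∀ x y : Co0, x * (negAut * y) = negAut * (x * y) := fun x y => by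
    rw [← mul_assoc, ← negAut_comm, mul_assoc]
  rcases hk with hk | hk <;> rcases hl with hl | hl <;> rw [hk, hl] <;> simp only [hn, hn', mul_right_inj]

variable {c : Cfg} (h : c.Ok)

/-- The positive kernel elements with fixed coordinates. -/
noncomputable def fixK : Subgroup Co0 where
  carrier := {x | ∃ a b, x = kEl a b ∧ c.aL (vecE (kBit a.val b.val)) = vecE (kBit a.val b.val)}
  one_mem' := by
    obtain ⟨b0, e0, -⟩ := kEl_one_exists
    refine ⟨0, b0, e0.symm, ?_⟩
    rw [← kx_kK, show kK 0 b0 = 1 from Subtype.ext (Subtype.ext e0), kx_one, map_zero]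
  mul_mem' := by
    rintro _ _ ⟨a, b, rfl, h1⟩ ⟨a', b', rfl, h2⟩
    obtain ⟨p, q, e1, e2⟩ := exists_prod a a' b b'
    exact ⟨p, q, e1, by rw [e2, vecE_xor, map_add, h1, h2]⟩
  inv_mem' := by
    rintro _ ⟨a, b, rfl, h1⟩
    obtain ⟨p, q, e1, e2⟩ := exists_prod a a b b
    obtain ⟨p', q', e3, e4⟩ := exists_prod p a q b
    refine ⟨p', q', ?_, by rw [e4, e2, Nat.xor_self, Nat.zero_xor]; exact h1⟩
    rw [inv_eq_iff_mul_eq_one, ← e3, ← e1]
    have h4 : kEl a b * kEl a b * (kEl a b * kEl a b) = 1 := by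
      rcases kEl_sq a b with e | e <;> rw [e]
      · exact one_mul _
      · exact tAut_mul_self
    simpa only [mul_assoc] using h4

theorem fixK_le_cent0 : fixK (c := c) ≤ cent0 := by
  rintro _ ⟨a, b, rfl, -⟩
  exact kEl_mem0 a b

/-- A member as an element of the kernel. -/
noncomputable def fixKer (x : fixK (c := c)) : toO.ker :=
  ⟨⟨x.1, fixK_le_cent0 x.2⟩, by
    obtain ⟨a, b, e, -⟩ := x.2
    exact mem_ker_toO.2 ⟨a, b, Or.inl e⟩⟩

theorem fixKer_mul (x y : fixK (c := c)) : fixKer (x * y) = fixKer x * fixKer y := Subtype.ext (Subtype.ext rfl)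

theorem kx_fixed (x : fixK (c := c)) : c.aL (kx (fixKer x)) = kx (fixKer x) := by
  obtain ⟨a, b, e, hb⟩ := x.2
  rw [kx_eq (g := fixKer x) (Or.inl e)]
  exact hb

theorem fixK_eq_of_zero {x : fixK (c := c)} (hx : kx (fixKer x) = 0) : (x : Co0) = 1 ∨ (x : Co0) = tAut := by
  obtain ⟨a, b, e, -⟩ := x.2
  rw [kx_eq (g := fixKer x) (Or.inl e), ← vec_zero] at hx
  rw [e]
  exact eq_of_bit_zero (vecE_injective (kBit_lt _ a.isLt _ b.isLt) (by norm_num) hx)

include h

theorem tAut_mem_fixK : tAut ∈ fixK (c := c) :=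
  ⟨0, tIdx, kEl_tIdx.symm, by
    rw [show ((0 : Fin 16).val) = 0 from rfl, kBit_tIdx, vec_zero, map_zero]⟩

theorem exists_fixK (v : ιI c.m → ZMod 2) : ∃ x : fixK (c := c), kx (fixKer x) = c.embL v := by
  obtain ⟨a, b, e⟩ := kx_surj (c.embL v)
  refine ⟨⟨kEl a b, a, b, rfl, ?_⟩, ?_⟩
  · rw [← kx_kK, e, Cfg.aL_embL h]
  · refine Eq.trans ?_ e
    exact congrArg kx (Subtype.ext (Subtype.ext rfl))

theorem kx_fixK (x : fixK (c := c)) : c.embL (c.prL (kx (fixKer x))) = kx (fixKer x) :=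
  Cfg.embL_of_fixed h (kx_fixed x)

theorem fixK_comm_iff (x y : fixK (c := c)) :
    (x : Co0) * y = y * x ↔
      QuadraticMap.polar (Qm c.m) (c.prL (kx (fixKer x))) (c.prL (kx (fixKer y))) = 0 := by
  show ((fixKer x : cent0) : Co0) * ((fixKer y : cent0) : Co0) = _ ↔ _
  rw [show (y : Co0) * x = ((fixKer y : cent0) : Co0) * ((fixKer x : cent0) : Co0) from rfl, comm_iff]
  have : ∀ u v, QuadraticMap.polar Q8 (c.embL u) (c.embL v) = QuadraticMap.polar (Qm c.m) u v := fun u v => by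
    simp only [QuadraticMap.polar]
    rw [← map_add, Cfg.quad_embL h, Cfg.quad_embL h, Cfg.quad_embL h]
  rw [← this, kx_fixK h, kx_fixK h]

theorem fixK_center {x : fixK (c := c)} (hx : ∀ y : fixK (c := c), (y : Co0) * x = x * y) :
    (x : Co0) = 1 ∨ (x : Co0) = tAut := by
  refine fixK_eq_of_zero ?_
  rw [← kx_fixK h]
  obtain ⟨n, hn, en⟩ := exists_vecI c.m (c.prL (kx (fixKer x)))
  rcases h.nondeg n hn with rfl | ⟨y, hy, hxy⟩
  · rw [← en, vecI_zero, map_zero]
  · exfalso
    obtain ⟨w, hw⟩ := exists_fixK h (vecI c.m y)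
    have := (fixK_comm_iff h x w).1 (hx w).symm
    rw [hw, Cfg.prL_embL h, ← en, polar_vecI h.hm, hxy] at this
    exact one_ne_zero this

theorem card_fixK : Nat.card (fixK (c := c)) = 2 ^ (2 * c.m + 3) := by
  rw [← h.count, ← Fintype.card_subtype, ← Nat.card_eq_fintype_card]
  have hiff : ∀ p : Fin 16 × Fin 32, c.fixedBit p = true ↔
      c.aL (vecE (kBit p.1.val p.2.val)) = vecE (kBit p.1.val p.2.val) := by
    intro p
    have hlt := kBit_lt _ p.1.isLt _ p.2.isLt
    rw [Cfg.fixedBit, beq_iff_eq, Cfg.aL_vec]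
    constructor
    · intro e
      have := (h.emb _ (h.proj _ hlt).1).2.2.1
      rw [e] at this
      rw [this]
    · intro e
      exact (h.proj _ hlt).2.2.2.2 (vecE_injective (h.proj _ hlt).2.1 hlt e)
  let f : {p : Fin 16 × Fin 32 // c.fixedBit p = true} → fixK (c := c) :=
    fun p => ⟨kEl p.1.1 p.1.2, p.1.1, p.1.2, rfl, (hiff p.1).1 p.2⟩
  refine (Nat.card_congr (Equiv.ofBijective f ⟨fun p q e => ?_, fun x => ?_⟩)).symm
  · obtain ⟨e1, e2⟩ := kEl_injective (congrArg Subtype.val e)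
    exact Subtype.ext (Prod.ext e1 e2)
  · obtain ⟨a, b, e, hb⟩ := x.2
    exact ⟨⟨(a, b), (hiff (a, b)).2 hb⟩, Subtype.ext e.symm⟩

theorem fixK_extraspecial : IsExtraspecial 2 (fixK (c := c)) := by
  haveI : Finite (fixK (c := c)) := Nat.finite_of_card_ne_zero (by rw [card_fixK h]; positivity)
  refine extraspecial_of_center_pair (IsPGroup.of_card (card_fixK h)) ⟨tAut, tAut_mem_fixK h⟩
    (fun e => tAut_ne_one (congrArg Subtype.val e)) (fun x => ⟨fun hx => ?_, ?_⟩) (fun x y => ?_) (fun x => ?_) ?_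
  · rcases fixK_center h (x := x) fun y => congrArg Subtype.val (Subgroup.mem_center_iff.1 hx y) with e | e
    · exact Or.inl (Subtype.ext e)
    · exact Or.inr (Subtype.ext e)
  · rintro (rfl | rfl)
    · exact one_mem _
    · exact Subgroup.mem_center_iff.2 fun y => Subtype.ext
        ((show IsZeta tAut from Or.inr (Or.inl rfl)).comm (fixK_le_cent0 y.2)).symm
  · obtain ⟨a, b, e, -⟩ := x.2
    obtain ⟨a', b', e', -⟩ := y.2
    rcases kEl_commutes a a' b b' with k | k
    · refine Or.inl (Subtype.ext ?_)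
      simp only [Subgroup.coe_mul, Subgroup.coe_inv, Subgroup.coe_one, e, e']
      rw [k, mul_inv_cancel_right, mul_inv_cancel]
    · refine Or.inr (Subtype.ext ?_)
      simp only [Subgroup.coe_mul, Subgroup.coe_inv, e, e']
      rw [k]; group
  · obtain ⟨a, b, e, -⟩ := x.2
    rcases kEl_sq a b with k | k
    · exact Or.inl (Subtype.ext (by rw [Subgroup.coe_mul, e, k]; rfl))
    · exact Or.inr (Subtype.ext (by rw [Subgroup.coe_mul, e, k]))
  · obtain ⟨u, hu, v, hv, huv, -⟩ := h.exists_pair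
    obtain ⟨x, hx⟩ := exists_fixK h (vecI c.m u)
    obtain ⟨y, hy⟩ := exists_fixK h (vecI c.m v)
    refine ⟨x, y, fun e => ?_⟩
    have := (fixK_comm_iff h x y).1 (congrArg Subtype.val e)
    rw [hx, hy, Cfg.prL_embL h, Cfg.prL_embL h, polar_vecI h.hm, huv] at this
    exact one_ne_zero this

theorem fixK_le_cs (x : fixK (c := c)) : (⟨x.1, fixK_le_cent0 x.2⟩ : cent0) ∈ cs h := by
  refine Subgroup.mem_centralizer_singleton_iff.2 ?_
  set k := fixKer x with hk
  have h1 : kx (conjK (aC h) k * k⁻¹) = 0 := by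
    rw [kx_mul, kx_inv, ← actV_kx, actV_aC h, kx_fixed]; exact funext fun _ => CharTwo.add_self_eq_zero _
  have hz := kx_eq_zero h1
  set z : cent0 := ((conjK (aC h) k * k⁻¹ : toO.ker) : cent0) with hzdef
  have hzc : ∀ w : cent0, z * w = w * z := fun w => Subtype.ext (hz.comm w.2)
  have e1 : aC h * (k : cent0) * (aC h)⁻¹ = z * (k : cent0) := by
    simp [hzdef, conjK]
  have e2 : ∀ n : ℕ, aC h ^ n * (k : cent0) * (aC h ^ n)⁻¹ = z ^ n * (k : cent0) := by
    intro n
    induction n with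
    | zero => simp
    | succ n ih =>
      rw [pow_succ', _root_.mul_inv_rev,
        show aC h * aC h ^ n * (k : cent0) * ((aC h ^ n)⁻¹ * (aC h)⁻¹) =
          aC h * (aC h ^ n * (k : cent0) * (aC h ^ n)⁻¹) * (aC h)⁻¹ by group,
        ih, pow_succ, ← mul_assoc (aC h),
        ← (show Commute (z ^ n) (aC h) from (show Commute z (aC h) from hzc _).pow_left n).eq,
        mul_assoc (z ^ n), mul_assoc (z ^ n), e1, mul_assoc]
  have e3 := e2 c.r
  rw [aC_pow, inv_one, one_mul, mul_one] at e3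
  have hz1 : z = 1 := by
    have e4 : z ^ c.r = 1 := (mul_eq_right.1 e3.symm)
    exact Subtype.ext (by rw [← isZeta_pow_odd hz h.odd, ← Subgroup.coe_pow, e4])
  rw [hz1, one_mul, mul_inv_eq_iff_eq_mul] at e1
  exact e1.symm

end CfsgLib.Leech.CoSections
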