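import Cfsg.Agent.Lib.Local.CharP
import Cfsg.Agent.Lib.Cores.Basic
import Cfsg.Prelude.Def_Transfer
import Mathlib.GroupTheory.FixedPointFree
import Mathlib.GroupTheory.Sylow

/-!
# Simplicity from the centraliser of a large extraspecial involution

A finite group with an involution `z` whose centraliser is an extension of a self-centralising
extraspecial two-group `Q` by a simple group, with `z` not weakly closed in `Q` and `Q` irreducible
modulo its centre, is simple.
-/

set_option autoImplicit false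

namespace CfsgLib.Leech.CoSections

open Cfsg Subgroup

variable {S : Type*} [Group S] [Finite S] {H : Type*} [Group H]

theorem center_eq_pair {C : Type*} [Group C] {K : Subgroup C} (h : IsExtraspecial 2 ↥K) {a : C}
    (haK : a ∈ K) (hac : a ∈ center C) (ha : a ≠ 1) {x : C} (hx : x ∈ K)
    (hxc : ∀ y ∈ K, y * x = x * y) : x = 1 ∨ x = a := by
  obtain ⟨u, v, huv, huniv⟩ := Nat.card_eq_two_iff.1 h.2
  have hmem : ∀ w : center ↥K, w = u ∨ w = v := fun w => by
    have : w ∈ ({u, v} : Set (center ↥K)) := huniv ▸ Set.mem_univ w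
    simpa using this
  let X : center ↥K := ⟨⟨x, hx⟩, Subgroup.mem_center_iff.2 fun y => Subtype.ext (hxc y.1 y.2)⟩
  let A : center ↥K :=
    ⟨⟨a, haK⟩, Subgroup.mem_center_iff.2 fun y => Subtype.ext (Subgroup.mem_center_iff.1 hac y.1)⟩
  have hA : A ≠ 1 := fun e => ha (congrArg (fun w : center ↥K => ((w : ↥K) : C)) e)
  suffices X = 1 ∨ X = A by
    rcases this with e | e
    · exact Or.inl (congrArg (fun w : center ↥K => ((w : ↥K) : C)) e)
    · exact Or.inr (congrArg (fun w : center ↥K => ((w : ↥K) : C)) e)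
  rcases hmem X with h1 | h1 <;> rcases hmem A with h2 | h2 <;> rcases hmem 1 with h3 | h3 <;> simp_all

theorem commutator_eq_pair {C : Type*} [Group C] {K : Subgroup C} (h : IsExtraspecial 2 ↥K) {a : C}
    (haK : a ∈ K) (hac : a ∈ center C) (ha : a ≠ 1) {x y : C} (hx : x ∈ K) (hy : y ∈ K) :
    x * y * x⁻¹ * y⁻¹ = 1 ∨ x * y * x⁻¹ * y⁻¹ = a := by
  have hc : (⟨x, hx⟩ : ↥K) * ⟨y, hy⟩ * (⟨x, hx⟩ : ↥K)⁻¹ * (⟨y, hy⟩ : ↥K)⁻¹ ∈ center ↥K := by
    rw [← h.1.2.2, ← commutatorElement_def, _root_.commutator_def]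
    exact commutator_mem_commutator (mem_top _) (mem_top _)
  refine center_eq_pair h haK hac ha (mul_mem (mul_mem (mul_mem hx hy) (inv_mem hx)) (inv_mem hy))
    fun w hw => ?_
  exact congrArg Subtype.val (Subgroup.mem_center_iff.1 hc ⟨w, hw⟩)

/-- The simplicity criterion, with the shape of the centraliser. -/
theorem simple_of_local (z : S) (hz : orderOf z = 2) (ψ : centralizer ({z} : Set S) →* H)
    (hsimp : IsSimpleGroup ↥ψ.range) (hnot2 : ¬ IsPGroup 2 ↥ψ.range) (hQ2 : IsPGroup 2 ↥ψ.ker)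
    (hQc : centralizer (ψ.ker : Set (centralizer ({z} : Set S))) ≤ ψ.ker)
    (hex : IsExtraspecial 2 ↥ψ.ker) (g : S) (q : centralizer ({z} : Set S)) (hqK : q ∈ ψ.ker)
    (hq : (q : S) = g * z * g⁻¹) (hqz : (q : S) ≠ z)
    (hspan : ∀ M : Subgroup (centralizer ({z} : Set S)), M.Normal → M ≤ ψ.ker → q ∈ M → ψ.ker ≤ M)
    (hy : ∃ y ∈ ψ.ker, (y : S) * q * (y : S)⁻¹ = q * z)
    (hP : ∃ u ∈ ψ.ker, ∃ v ∈ ψ.ker, u * q = q * u ∧ v * q = q * v ∧ u * v ≠ v * u) :
    IsSimpleGroup S ∧ ¬ IsMulCommutative S ∧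
      generalizedFittingSubgroup (centralizer ({z} : Set S)) = ψ.ker := by
  classical
  haveI : Fact (Nat.Prime 2) := ⟨Nat.prime_two⟩
  have hz1 : z ≠ 1 := fun e => by rw [e, orderOf_one] at hz; norm_num at hz
  have hz2 : z * z = 1 := by rw [← pow_two, ← hz]; exact pow_orderOf_eq_one z
  have hmemC : ∀ {x : S}, x ∈ (centralizer ({z} : Set S)) ↔ x * z = z * x := fun {x} => mem_centralizer_singleton_iff
  set zC : (centralizer ({z} : Set S)) := ⟨z, hmemC.2 rfl⟩ with hzC
  have hzCc : zC ∈ center (centralizer ({z} : Set S)) :=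
    Subgroup.mem_center_iff.2 fun x => Subtype.ext (hmemC.1 x.2)
  have hzC1 : zC ≠ 1 := fun e => hz1 (congrArg Subtype.val e)
  have hzK : zC ∈ ψ.ker :=
    hQc (Subgroup.mem_centralizer_iff.2 fun x _ => (Subgroup.mem_center_iff.1 hzCc x))
  -- the generalised Fitting subgroup
  have hcore : pCore 2 (centralizer ({z} : Set S)) = ψ.ker := by
    refine le_antisymm ?_ (CfsgLib.Cores.le_pCore hQ2)
    rw [pCore, sSup_le_iff]
    rintro N ⟨hN, hp⟩
    rcases IsSimpleGroup.eq_bot_or_eq_top_of_normal _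
      (hN.map ψ.rangeRestrict ψ.rangeRestrict_surjective) with h | h
    · intro x hx
      have := (Subgroup.map_eq_bot_iff _).1 h hx
      rwa [MonoidHom.ker_rangeRestrict] at this
    · exact absurd (IsPGroup.of_equiv (h ▸ hp.map ψ.rangeRestrict) Subgroup.topEquiv) hnot2
  have hgfs : generalizedFittingSubgroup (centralizer ({z} : Set S)) = ψ.ker := by
    have h : CfsgLib.Local.HasCharP 2 (centralizer ({z} : Set S)) := by rw [CfsgLib.Local.HasCharP, hcore]; exact hQc
    rw [h.generalizedFittingSubgroup_eq, hcore]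
  refine ⟨?_, fun h => hqz ?_, hgfs⟩
  swap
  · rw [hq, h.is_comm.comm g z, mul_inv_cancel_right]
  haveI : Nontrivial S := ⟨z, 1, hz1⟩
  refine ⟨fun N hN => ?_⟩
  set M := N.subgroupOf (centralizer ({z} : Set S)) with hM
  have hMn : M.Normal := inferInstance
  have hKn : ψ.ker.Normal := inferInstance
  -- conjugates of `z` act on `N` with the fixed points of `z`
  by_cases htriv : M ⊓ ψ.ker = ⊥
  · left
    have hMb : M = ⊥ := by
      rw [← le_bot_iff, ← htriv, le_inf_iff]
      refine ⟨le_rfl, le_trans ?_ hQc⟩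
      intro m hm
      refine Subgroup.mem_centralizer_iff.2 fun k hk => ?_
      have : k * m * k⁻¹ * m⁻¹ ∈ M ⊓ ψ.ker := by
        refine Subgroup.mem_inf.2 ⟨mul_mem (hMn.conj_mem m hm k) (inv_mem hm), ?_⟩
        rw [mul_assoc (k * m), mul_assoc k, ← mul_assoc m]
        exact mul_mem hk (hKn.conj_mem _ (inv_mem (show k ∈ ψ.ker from hk)) m)
      rw [htriv, Subgroup.mem_bot] at this
      rwa [mul_inv_eq_one, mul_inv_eq_iff_eq_mul] at this
    have hfp : ∀ n ∈ N, n * z = z * n → n = 1 := fun n hn e => by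
      have : (⟨n, hmemC.2 e⟩ : (centralizer ({z} : Set S))) ∈ M := hn
      rw [hMb, Subgroup.mem_bot] at this
      exact congrArg Subtype.val this
    have hinv : ∀ h : S, ∀ n ∈ N, (h * z * h⁻¹) * n * (h * z * h⁻¹) = n⁻¹ := by
      intro h n hn
      have hw : h⁻¹ * n * h ∈ N := hN.conj_mem' n hn h
      let φ : N →* N :=
        { toFun := fun x => ⟨z * x * z⁻¹, hN.conj_mem x x.2 z⟩
          map_one' := Subtype.ext (by simp)
          map_mul' := fun x y => Subtype.ext (by simp [mul_assoc]) }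
      have hφ : MonoidHom.FixedPointFree φ := fun x hx => by
        refine Subtype.ext (hfp x.1 x.2 ?_)
        have := congrArg Subtype.val hx
        simp only [φ, MonoidHom.coe_mk, OneHom.coe_mk] at this
        rw [mul_inv_eq_iff_eq_mul] at this
        exact this.symm
      have hzi : z⁻¹ = z := inv_eq_of_mul_eq_one_right hz2
      have h2 : Function.Involutive φ := fun x => by
        refine Subtype.ext ?_
        simp only [φ, MonoidHom.coe_mk, OneHom.coe_mk]
        calc z * (z * (x : S) * z⁻¹) * z⁻¹ = (z * z) * (x : S) * (z * z)⁻¹ := by group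
          _ = x := by rw [hz2, inv_one, one_mul, mul_one]
      have key := congrArg Subtype.val (congrFun (hφ.coe_eq_inv_of_involutive h2) ⟨_, hw⟩)
      simp only [φ, MonoidHom.coe_mk, OneHom.coe_mk, InvMemClass.coe_inv, hzi] at key
      calc (h * z * h⁻¹) * n * (h * z * h⁻¹) = h * (z * (h⁻¹ * n * h) * z) * h⁻¹ := by group
        _ = n⁻¹ := by rw [key]; group
    rw [Subgroup.eq_bot_iff_forall]
    intro n hn
    obtain ⟨y, -, hy⟩ := hy
    have hqzconj : (q : S) * z = ((y : S) * g) * z * ((y : S) * g)⁻¹ := by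
      rw [← hy, hq]; group
    have h1 := hinv 1 n hn
    have h2 := hinv g n hn
    have h3 := hinv ((y : S) * g) n hn
    rw [one_mul, inv_one, mul_one] at h1
    rw [← hq] at h2
    rw [← hqzconj] at h3
    have h2' := hinv g n⁻¹ (inv_mem hn)
    rw [inv_inv, ← hq] at h2'
    have hcomm : (q : S) * z = z * q := hmemC.1 q.2
    have hnn : n⁻¹ = n := by
      calc n⁻¹ = (q : S) * z * n * (q * z) := h3.symm
        _ = (q : S) * (z * n * z) * q := by rw [show (q : S) * z * n * (q * z) = q * z * n * (z * q) by rw [hcomm]]; simp only [mul_assoc]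
        _ = n := by rw [h1, h2']
    refine hfp n hn ?_
    calc n * z = z * z * n * z := by rw [hz2, one_mul]
      _ = z * (z * n * z) := by simp only [mul_assoc]
      _ = z * n := by rw [h1, hnn]
  -- `z` and `q` lie in `N`
  right
  have hzN : z ∈ N := by
    obtain ⟨x, hxM, hx1⟩ := ((Subgroup.nontrivial_iff_exists_ne_one _).1
      ((Subgroup.nontrivial_iff_ne_bot _).2 htriv))
    have hfin : zC ∈ M := by
      by_cases hxc : ∀ w ∈ ψ.ker, w * x = x * w
      · rcases center_eq_pair hex hzK hzCc hzC1 hxM.2 hxc with e | e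
        · exact absurd e hx1
        · exact e ▸ hxM.1
      · push Not at hxc
        obtain ⟨w, hw, hne⟩ := hxc
        rcases commutator_eq_pair hex hzK hzCc hzC1 hw hxM.2 with e | e
        · rw [mul_inv_eq_one, mul_inv_eq_iff_eq_mul] at e
          exact absurd e hne
        · exact e ▸ mul_mem (hMn.conj_mem x hxM.1 w) (inv_mem hxM.1)
    exact hfin
  have hqN : (q : S) ∈ N := hq ▸ hN.conj_mem z hzN g
  have hKM : ψ.ker ≤ M :=
    le_trans (hspan (M ⊓ ψ.ker) inferInstance inf_le_right ⟨hqN, hqK⟩) inf_le_left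
  -- every Sylow two-subgroup above `ψ.ker` centralises `z`
  let K' : Subgroup S := ψ.ker.map (centralizer ({z} : Set S)).subtype
  have hK'2 : IsPGroup 2 K' := hQ2.map _
  obtain ⟨R, hR⟩ := hK'2.exists_le_sylow
  have hZR : ∀ x : S, x ≠ 1 → x ∈ R → (∀ w ∈ R, w * x = x * w) → x = z := by
    intro x hx1 hxR hx
    have hzR : z ∈ R := hR ⟨zC, hzK, rfl⟩
    have hxC : x ∈ (centralizer ({z} : Set S)) := hmemC.2 (hx z hzR).symm
    have hxK : (⟨x, hxC⟩ : (centralizer ({z} : Set S))) ∈ ψ.ker :=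
      hQc (Subgroup.mem_centralizer_iff.2 fun w hw => Subtype.ext (hx w (hR ⟨w, hw, rfl⟩)))
    rcases center_eq_pair hex hzK hzCc hzC1 hxK
      (fun w hw => Subtype.ext (hx w (hR ⟨w, hw, rfl⟩))) with e | e
    · exact absurd (congrArg Subtype.val e) hx1
    · exact congrArg Subtype.val e
  obtain ⟨x0, hx0, hx01⟩ : ∃ x : (R : Subgroup S), x ∈ center (R : Subgroup S) ∧ x ≠ 1 := by
    haveI : Nontrivial (R : Subgroup S) :=
      ⟨⟨z, hR ⟨zC, hzK, rfl⟩⟩, 1, fun e => hz1 (congrArg Subtype.val e)⟩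
    haveI := R.isPGroup'.center_nontrivial
    obtain ⟨w, hw⟩ := exists_ne (1 : center (R : Subgroup S))
    exact ⟨w.1, w.2, fun e => hw (Subtype.ext e)⟩
  have hx0z : (x0 : S) = z := hZR x0.1 (fun e => hx01 (Subtype.ext e)) x0.2
    fun w hw => congrArg Subtype.val (Subgroup.mem_center_iff.1 hx0 ⟨w, hw⟩)
  have hRC : (R : Subgroup S) ≤ (centralizer ({z} : Set S)) := fun w hw => hmemC.2
    (hx0z ▸ congrArg Subtype.val (Subgroup.mem_center_iff.1 hx0 ⟨w, hw⟩))
  have hnormR : normalizer ((R : Subgroup S) : Set S) ≤ (centralizer ({z} : Set S)) := by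
    intro n hn
    have hmem := fun w : S => Subgroup.mem_normalizer_iff.1 hn w
    have hx : n * z * n⁻¹ = z := by
      refine hZR _ (fun e => hz1 (conj_eq_one_iff.1 e)) ((hmem z).1 (hR ⟨zC, hzK, rfl⟩)) fun w hw => ?_
      have hw' : n⁻¹ * w * n ∈ (R : Subgroup S) :=
        (hmem _).2 (by rw [show n * (n⁻¹ * w * n) * n⁻¹ = w by group]; exact hw)
      have := hmemC.1 (hRC hw')
      calc w * (n * z * n⁻¹) = n * (n⁻¹ * w * n * z) * n⁻¹ := by group
        _ = n * (z * (n⁻¹ * w * n)) * n⁻¹ := by rw [this]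
        _ = n * z * n⁻¹ * w := by group
    exact hmemC.2 (by rwa [mul_inv_eq_iff_eq_mul] at hx)
  rcases IsSimpleGroup.eq_bot_or_eq_top_of_normal _
    (hMn.map ψ.rangeRestrict ψ.rangeRestrict_surjective) with h | h
  · -- the centraliser of `z` in `N` is the extraspecial group
    exfalso
    have hMK : M ≤ ψ.ker := fun x hx => by
      have := (Subgroup.map_eq_bot_iff _).1 h hx
      rwa [MonoidHom.ker_rangeRestrict] at this
    have hMeq : M = ψ.ker := le_antisymm hMK hKM
    -- the centraliser of `q` in `N` is a conjugate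
    let K2 : Subgroup S := K'.map (MulAut.conj g).toMonoidHom
    have hK2 : ∀ x : S, x ∈ K2 ↔ x ∈ N ∧ x * q = q * x := by
      intro x
      constructor
      · rintro ⟨_, ⟨w, hw, rfl⟩, rfl⟩
        refine ⟨hN.conj_mem _ (hKM hw) g, ?_⟩
        show g * (w : S) * g⁻¹ * q = q * (g * w * g⁻¹)
        rw [hq]
        calc g * (w : S) * g⁻¹ * (g * z * g⁻¹) = g * ((w : S) * z) * g⁻¹ := by group
          _ = g * (z * w) * g⁻¹ := by rw [hmemC.1 w.2]
          _ = g * z * g⁻¹ * (g * w * g⁻¹) := by group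
      · rintro ⟨hxN, hxq⟩
        have hxC : g⁻¹ * x * g ∈ (centralizer ({z} : Set S)) := by
          refine hmemC.2 ?_
          rw [hq] at hxq
          calc g⁻¹ * x * g * z = g⁻¹ * (x * (g * z * g⁻¹)) * g := by group
            _ = g⁻¹ * (g * z * g⁻¹ * x) * g := by rw [hxq]
            _ = z * (g⁻¹ * x * g) := by group
        have hk : (⟨_, hxC⟩ : (centralizer ({z} : Set S))) ∈ ψ.ker := hMK (hN.conj_mem' x hxN g)
        exact ⟨g⁻¹ * x * g, ⟨_, hk, rfl⟩, by simp [mul_assoc]⟩
    let P0 : Subgroup S := K' ⊓ K2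
    have hcard : Nat.card K2 = Nat.card K' :=
      Subgroup.card_map_of_injective (MulAut.conj g).injective
    -- `P0` has index at most two in both
    have hidx : P0.relIndex K2 ≤ 2 := by
      have h1 : P0.relIndex K' ≤ 2 := by
        by_contra hlt
        push Not at hlt
        obtain ⟨y, hy, hyq⟩ := hy
        have hsub : ∀ w : S, w ∈ K' → w ∈ P0 ∨ y.1⁻¹ * w ∈ P0 := by
          rintro _ ⟨w, hw, rfl⟩
          have hwN : (w : S) ∈ N := hKM hw
          rcases commutator_eq_pair hex hzK hzCc hzC1 hw hqK with e | e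
          · refine Or.inl ⟨⟨w, hw, rfl⟩, (hK2 _).2 ⟨hwN, ?_⟩⟩
            rw [mul_inv_eq_one, mul_inv_eq_iff_eq_mul] at e
            exact congrArg Subtype.val e
          · refine Or.inr ⟨⟨y⁻¹ * w, mul_mem (inv_mem hy) hw, rfl⟩,
              (hK2 _).2 ⟨mul_mem (inv_mem (hKM hy)) hwN, ?_⟩⟩
            have e' : (w : S) * q * (w : S)⁻¹ = z * q := by
              have := congrArg Subtype.val e
              simp only [Subgroup.coe_mul, Subgroup.coe_inv] at this
              rwa [mul_inv_eq_iff_eq_mul] at this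
            rw [← hmemC.1 q.2] at e'
            show (y : S)⁻¹ * w * q = q * ((y : S)⁻¹ * w)
            calc (y : S)⁻¹ * w * q = (y : S)⁻¹ * ((w : S) * q * (w : S)⁻¹) * w := by group
              _ = (y : S)⁻¹ * ((y : S) * q * (y : S)⁻¹) * w := by rw [e', hyq]
              _ = q * ((y : S)⁻¹ * w) := by group
        let f : Bool → ↥K' ⧸ P0.subgroupOf K' :=
          fun b => cond b (QuotientGroup.mk ⟨y, y, hy, rfl⟩) (QuotientGroup.mk 1)
        have hf : Function.Surjective f := fun c => by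
          obtain ⟨w, rfl⟩ := QuotientGroup.mk_surjective c
          rcases hsub w w.2 with e | e
          · exact ⟨false, QuotientGroup.eq.2 (by simpa [Subgroup.mem_subgroupOf] using e)⟩
          · exact ⟨true, QuotientGroup.eq.2 (by simpa [Subgroup.mem_subgroupOf] using e)⟩
        have := Nat.card_le_card_of_surjective f hf
        rw [Subgroup.relIndex, Subgroup.index] at hlt
        simp at this
        omega
      have e1 := Subgroup.card_mul_index (P0.subgroupOf K')
      have e2 := Subgroup.card_mul_index (P0.subgroupOf K2)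
      rw [Nat.card_congr (Subgroup.subgroupOfEquivOfLe (inf_le_left : P0 ≤ K')).toEquiv] at e1
      rw [Nat.card_congr (Subgroup.subgroupOfEquivOfLe (inf_le_right : P0 ≤ K2)).toEquiv, hcard, ← e1] at e2
      have := Nat.eq_of_mul_eq_mul_left Nat.card_pos e2
      rwa [Subgroup.relIndex, this]
    haveI hnorm : (P0.subgroupOf K2).Normal := by
      rcases Nat.eq_or_lt_of_le hidx with e | e
      · exact Subgroup.normal_of_index_eq_two e
      · have : (P0.subgroupOf K2).index = 1 := by
          have := Subgroup.index_ne_zero_of_finite (H := P0.subgroupOf K2)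
          rw [Subgroup.relIndex] at e
          omega
        rw [Subgroup.index_eq_one.1 this]
        infer_instance
    obtain ⟨u, hu, v, hv, huq, hvq, huv⟩ := hP
    have huP : (u : S) ∈ P0 := ⟨⟨u, hu, rfl⟩, (hK2 _).2 ⟨hKM hu, congrArg Subtype.val huq⟩⟩
    have hvP : (v : S) ∈ P0 := ⟨⟨v, hv, rfl⟩, (hK2 _).2 ⟨hKM hv, congrArg Subtype.val hvq⟩⟩
    have hzuv : z = (u : S) * v * (u : S)⁻¹ * (v : S)⁻¹ := by
      rcases commutator_eq_pair hex hzK hzCc hzC1 hu hv with e | e
      · rw [mul_inv_eq_one, mul_inv_eq_iff_eq_mul] at e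
        exact absurd e huv
      · exact (congrArg Subtype.val e).symm
    have hK2C : ∀ n ∈ K2, n ∈ (centralizer ({z} : Set S)) := by
      intro n hn
      have hconj : ∀ w ∈ P0, n * w * n⁻¹ ∈ K' := fun w hw =>
        (Subgroup.mem_subgroupOf.1 (hnorm.conj_mem ⟨w, hw.2⟩ hw ⟨n, hn⟩)).1
      obtain ⟨u', hu', eu⟩ := hconj u huP
      obtain ⟨v', hv', ev⟩ := hconj v hvP
      have e : n * z * n⁻¹ = (u' : S) * v' * (u' : S)⁻¹ * (v' : S)⁻¹ := by
        change (u' : S) = _ at eu
        change (v' : S) = _ at ev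
        refine Eq.trans (congrArg (fun w => n * w * n⁻¹) hzuv) ?_
        show n * ((u : S) * v * (u : S)⁻¹ * (v : S)⁻¹) * n⁻¹ = _
        rw [eu, ev]; group
      refine hmemC.2 ?_
      rcases commutator_eq_pair hex hzK hzCc hzC1 hu' hv' with e' | e'
      · exfalso
        have e'' := congrArg Subtype.val e'
        simp only [Subgroup.coe_mul, Subgroup.coe_inv, Subgroup.coe_one] at e''
        exact hz1 (conj_eq_one_iff.1 (e.trans e''))
      · have e'' := congrArg Subtype.val e'
        simp only [Subgroup.coe_mul, Subgroup.coe_inv] at e''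
        have := e.trans e''
        rwa [mul_inv_eq_iff_eq_mul] at this
    have hle : K2 ≤ K' := fun n hn => by
      have hnN : n ∈ N := ((hK2 n).1 hn).1
      exact ⟨⟨n, hK2C n hn⟩, hMK hnN, rfl⟩
    have heq : K2 = K' := Subgroup.eq_of_le_of_card_ge hle hcard.ge
    -- so `q` would be central
    have hqc : ∀ w ∈ ψ.ker, w * q = q * w := fun w hw =>
      Subtype.ext ((hK2 w).1 (heq ▸ ⟨w, hw, rfl⟩ : (w : S) ∈ K2)).2
    rcases center_eq_pair hex hzK hzCc hzC1 hqK hqc with e | e
    · exact hz1 (conj_eq_one_iff.1 (hq.symm.trans (congrArg Subtype.val e)))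
    · exact hqz (congrArg Subtype.val e)
  · have hCN : (centralizer ({z} : Set S)) ≤ N := by
      intro c hc
      obtain ⟨m, hm, e⟩ : ψ.rangeRestrict ⟨c, hc⟩ ∈ M.map ψ.rangeRestrict := h ▸ mem_top _
      have hker : m⁻¹ * (⟨c, hc⟩ : (centralizer ({z} : Set S))) ∈ ψ.ker := by
        rw [← MonoidHom.ker_rangeRestrict, MonoidHom.mem_ker, map_mul, map_inv, e, inv_mul_cancel]
      have := mul_mem hm (hKM hker)
      rwa [mul_inv_cancel_left] at this
    rw [eq_top_iff, ← Sylow.normalizer_sup_eq_top' (N := N) R (hRC.trans hCN), sup_le_iff]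
    exact ⟨(hnormR).trans hCN, le_rfl⟩

end CfsgLib.Leech.CoSections
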