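import Cfsg.Agent.Lib.Leech.CoSections.Kernel
import Cfsg.Agent.Lib.Leech.CoSections.Simple

/-!
# Simple sections of the automorphism group of the lattice
-/

set_option autoImplicit false
set_option maxRecDepth 100000
set_option maxHeartbeats 400000

namespace CfsgLib.Leech.CoSections

open Cfsg CfsgLib.Golay CfsgLib.Leech CfsgLib.Leech.CoTwo CfsgLib.Leech.CoOne CfsgLib.Classical

variable {c : Cfg} (h : c.Ok)

/-- The subgroup of odd order. -/
abbrev AG : Subgroup Co0 := Subgroup.zpowers (aCo h)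

/-- Its centraliser. -/
abbrev CA : Subgroup Co0 := Subgroup.centralizer (AG h : Set Co0)

/-- The subgroup factored out. -/
abbrev N0 : Subgroup (CA h) := (AG h ⊔ Subgroup.center Co0).subgroupOf (CA h)

theorem mem_CA {x : Co0} : x ∈ CA h ↔ x * aCo h = aCo h * x := by
  refine ⟨fun hx => (Subgroup.mem_centralizer_iff.1 hx _ (Subgroup.mem_zpowers _)).symm, fun hx => ?_⟩
  refine Subgroup.mem_centralizer_iff.2 fun y hy => ?_
  obtain ⟨i, rfl⟩ := Subgroup.mem_zpowers_iff.1 hy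
  exact (((show Commute x (aCo h) from hx).zpow_right i).eq).symm

theorem sup_cases {x : Co0} (hx : x ∈ AG h ⊔ Subgroup.center Co0) :
    ∃ (i : ℤ) (z : Co0), (z = 1 ∨ z = negAut) ∧ x = z * aCo h ^ i := by
  obtain ⟨y, hy, z, hz, rfl⟩ := Subgroup.mem_sup_of_normal_right.1 hx
  obtain ⟨i, rfl⟩ := Subgroup.mem_zpowers_iff.1 hy
  exact ⟨i, z, center_cases hz, Subgroup.mem_center_iff.1 hz _⟩

theorem N0_normal : (N0 h).Normal := by
  refine ⟨fun n hn g => ?_⟩
  rw [Subgroup.mem_subgroupOf] at hn ⊢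
  obtain ⟨i, z, hz, e⟩ := sup_cases h hn
  have hc : (g : Co0) * (n : Co0) = n * g := by
    have hg : Commute (g : Co0) (aCo h ^ i) := (show Commute _ _ from (mem_CA h).1 g.2).zpow_right i
    rw [e]
    rcases hz with rfl | rfl
    · rw [one_mul]; exact hg.eq
    · rw [← mul_assoc, ← negAut_comm, mul_assoc, hg.eq, mul_assoc]
  rw [Subgroup.coe_mul, Subgroup.coe_mul, Subgroup.coe_inv, hc, mul_inv_cancel_right]
  exact hn

theorem orderOf_aCo (hne : aCo h ≠ 1) : orderOf (aCo h) = c.r := by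
  haveI : Fact c.r.Prime := ⟨h.prime⟩
  exact orderOf_eq_prime (aCo_pow h) hne

theorem zpow_pow_r (i : ℤ) : (aCo h ^ i) ^ c.r = 1 := by
  rw [← zpow_natCast, ← zpow_mul, mul_comm, zpow_mul, zpow_natCast, aCo_pow, _root_.one_zpow]

theorem eq_one_of_two {x : Co0} {i : ℤ} (hx : x * x = 1) (e : x = aCo h ^ i) : x = 1 := by
  have h1 : x ^ c.r = x := by
    conv_lhs => rw [← Nat.div_add_mod c.r 2, h.odd, pow_succ, pow_mul, pow_two, hx, one_pow, one_mul]
  rw [← h1, e, zpow_pow_r]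

theorem aCo_ne_one : aCo h ≠ 1 := by
  intro e
  obtain ⟨hv, hp, hne⟩ := h.vec_ok
  have e' : aC h = 1 := Subtype.ext e
  obtain ⟨u, hu, eu⟩ := h.moved _ hv hp
  refine hne (vecE_injective hv (by norm_num) ?_)
  rw [← eu, vecE_xor, ← Cfg.aL_vec, ← toK_aC h, e', map_one, qAut_one_apply, vec_zero]
  exact funext fun _ => CharTwo.add_self_eq_zero _

variable [hn : (N0 h).Normal]

/-- The section. -/
abbrev Sec : Type := ↥(CA h) ⧸ N0 h

/-- The quotient map. -/
abbrev mkS : CA h →* Sec h := QuotientGroup.mk' (N0 h)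

theorem mkS_eq {x y : CA h} : mkS h x = mkS h y ↔
    ∃ (i : ℤ) (z : Co0), (z = 1 ∨ z = negAut) ∧ (y : Co0) = x * (z * aCo h ^ i) := by
  rw [QuotientGroup.mk'_apply, QuotientGroup.mk'_apply, QuotientGroup.eq, Subgroup.mem_subgroupOf]
  constructor
  · intro e
    obtain ⟨i, z, hz, e'⟩ := sup_cases h e
    exact ⟨i, z, hz, by rw [← e', Subgroup.coe_mul, Subgroup.coe_inv, mul_inv_cancel_left]⟩
  · rintro ⟨i, z, hz, e⟩
    rw [Subgroup.coe_mul, Subgroup.coe_inv, e, inv_mul_cancel_left]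
    refine mul_mem (Subgroup.mem_sup_right ?_) (Subgroup.mem_sup_left (zpow_mem (Subgroup.mem_zpowers _) i))
    rcases hz with rfl | rfl
    · exact one_mem _
    · exact negAut_central

theorem tAut_mem_CA : tAut ∈ CA h :=
  (mem_CA h).2 (Subgroup.mem_centralizer_singleton_iff.1 (aCo_mem h)).symm

/-- The involution. -/
def zS : Sec h := mkS h ⟨tAut, tAut_mem_CA h⟩

theorem cs_mem_CA (x : cs h) : ((x : cent0) : Co0) ∈ CA h :=
  (mem_CA h).2 (congrArg Subtype.val (cs_comm h x))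

/-- The centraliser as a subgroup of the centraliser of the odd element. -/
noncomputable def csCA : cs h →* CA h :=
  MonoidHom.mk' (fun x => ⟨((x : cent0) : Co0), cs_mem_CA h x⟩) fun _ _ => rfl

/-- The map to the centraliser of the involution. -/
noncomputable def toCS : cs h →* Subgroup.centralizer ({zS h} : Set (Sec h)) :=
  ((mkS h).comp (csCA h)).codRestrict _ fun x => Subgroup.mem_centralizer_singleton_iff.2 (by
    show mkS h _ * mkS h _ = mkS h _ * mkS h _
    rw [← map_mul, ← map_mul]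
    exact congrArg (mkS h) (Subtype.ext (Subgroup.mem_centralizer_singleton_iff.1 (x : cent0).2)))

theorem coe_toCS (x : cs h) : ((toCS h x : Subgroup.centralizer ({zS h} : Set (Sec h))) : Sec h) =
    mkS h (csCA h x) := rfl

theorem toCS_surjective : Function.Surjective (toCS h) := by
  rintro ⟨s, hs⟩
  obtain ⟨g, rfl⟩ := QuotientGroup.mk'_surjective (N0 h) s
  have e := Subgroup.mem_centralizer_singleton_iff.1 hs
  rw [zS, ← map_mul, ← map_mul] at e
  obtain ⟨i, z, hz, e'⟩ := (mkS_eq h).1 e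
  simp only [Subgroup.coe_mul] at e'
  have ha : Commute (g : Co0) (aCo h) := (mem_CA h).1 g.2
  have hu : Commute (g : Co0) (aCo h ^ i) := ha.zpow_right i
  have hut : Commute tAut (aCo h ^ i) :=
    (show Commute tAut (aCo h) from (Subgroup.mem_centralizer_singleton_iff.1 (aCo_mem h)).symm).zpow_right i
  -- the commutator squares to one
  have hz2 : z * z = 1 := by rcases hz with rfl | rfl; exacts [one_mul 1, negAut_sq]
  have hzc : ∀ x : Co0, Commute z x := fun x => by
    rcases hz with rfl | rfl; exacts [Commute.one_left x, negAut_comm x]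
  have hi : aCo h ^ i = 1 := by
    refine eq_one_of_two h ?_ rfl
    have h3 : tAut * (z * aCo h ^ i) = (g : Co0)⁻¹ * tAut * g := by
      rw [mul_assoc ((g : Co0)⁻¹), e', mul_assoc, inv_mul_cancel_left]
    have huc : Commute tAut (z * aCo h ^ i) := (hzc tAut).symm.mul_right hut
    have h4 : tAut * (z * aCo h ^ i) * (tAut * (z * aCo h ^ i)) = 1 := by
      rw [h3]
      calc (g : Co0)⁻¹ * tAut * g * ((g : Co0)⁻¹ * tAut * g) = (g : Co0)⁻¹ * (tAut * tAut) * g := by group
        _ = 1 := by rw [tAut_mul_self]; group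
    rwa [huc.symm.mul_mul_mul_comm, tAut_mul_self, one_mul, (hzc _).symm.mul_mul_mul_comm, hz2, one_mul] at h4
  rw [hi, mul_one] at e'
  rcases hz with rfl | rfl
  · exact ⟨⟨⟨(g : Co0), Subgroup.mem_centralizer_singleton_iff.2 (by rw [mul_one] at e'; exact e'.symm)⟩,
      Subgroup.mem_centralizer_singleton_iff.2 (Subtype.ext ha.eq)⟩, Subtype.ext rfl⟩
  · exfalso
    refine not_anticomm (g : Co0) ?_
    rw [e', ← mul_assoc (negAut), ← negAut_comm, ← mul_assoc, negAut_sq, one_mul]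

theorem psiV_neg (x : cs h) (hx : ((x : cent0) : Co0) = negAut) : psiV h x = 1 := by
  refine qAut_ext fun v => ?_
  have e : toK (x : cent0) = 1 := by
    rw [← MonoidHom.mem_ker, ker_toK]
    obtain ⟨b0, e0, -⟩ := kEl_one_exists
    exact mem_ker_toO.2 ⟨0, b0, Or.inr (by rw [hx, e0, mul_one])⟩
  have := congrArg c.prL (psiV_embL h x v)
  rwa [e, qAut_one_apply, Cfg.prL_embL h, Cfg.prL_embL h] at this

/-- The odd element in its centraliser. -/
noncomputable def aCs : cs h := ⟨aC h, Subgroup.mem_centralizer_singleton_iff.2 rfl⟩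

theorem psiV_aCs : psiV h (aCs h) = 1 := by
  refine qAut_ext fun v => ?_
  have := congrArg c.prL (psiV_embL h (aCs h) v)
  rw [show ((aCs h : cs h) : cent0) = aC h from rfl, toK_aC, Cfg.aL_embL h, Cfg.prL_embL h,
    Cfg.prL_embL h] at this
  exact this

theorem coe_aCs_zpow (i : ℤ) : (((aCs h ^ i : cs h) : cent0) : Co0) = aCo h ^ i := by
  rw [Subgroup.coe_zpow, Subgroup.coe_zpow]; rfl

theorem ker_toCS : (toCS h).ker ≤ (psiV h).ker := by
  intro x hx
  have e : mkS h (csCA h x) = mkS h 1 := by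
    rw [map_one]; exact congrArg Subtype.val hx
  obtain ⟨i, z, hz, e'⟩ := (mkS_eq h).1 e.symm
  rw [OneMemClass.coe_one, one_mul] at e'
  change ((x : cent0) : Co0) = _ at e'
  rcases hz with rfl | rfl
  · have : x = aCs h ^ i := Subtype.ext (Subtype.ext (by rw [coe_aCs_zpow, e', one_mul]))
    rw [this, MonoidHom.mem_ker, map_zpow, psiV_aCs, _root_.one_zpow]
  · have hy : ((((x * (aCs h ^ i)⁻¹ : cs h)) : cent0) : Co0) = negAut := by
      rw [Subgroup.coe_mul, Subgroup.coe_mul, Subgroup.coe_inv, Subgroup.coe_inv, coe_aCs_zpow, e',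
        mul_inv_cancel_right]
    have := psiV_neg h _ hy
    rwa [map_mul, map_inv, map_zpow, psiV_aCs, _root_.one_zpow, inv_one, mul_one] at this

/-- The action of the centraliser of the involution. -/
noncomputable def psiS : Subgroup.centralizer ({zS h} : Set (Sec h)) →* qAut (Qm c.m) :=
  (toCS h).liftOfSurjective (toCS_surjective h) ⟨psiV h, ker_toCS h⟩

theorem psiS_toCS (x : cs h) : psiS h (toCS h x) = psiV h x :=
  MonoidHom.liftOfRightInverse_comp_apply _ _ _ _ _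

theorem range_psiS : (psiS h).range = (psiV h).range := by
  ext y
  constructor
  · rintro ⟨x, rfl⟩
    obtain ⟨g, rfl⟩ := toCS_surjective h x
    exact ⟨g, (psiS_toCS h g).symm⟩
  · rintro ⟨g, rfl⟩
    exact ⟨toCS h g, psiS_toCS h g⟩

/-- The extraspecial subgroup in the centraliser. -/
noncomputable def fkCS : fixK (c := c) →* cs h :=
  MonoidHom.mk' (fun x => ⟨⟨x.1, fixK_le_cent0 x.2⟩, fixK_le_cs h x⟩) fun _ _ => rfl

theorem toK_fkCS (x : fixK (c := c)) : toK ((fkCS h x : cs h) : cent0) = 1 := by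
  rw [← MonoidHom.mem_ker, ker_toK]; exact (fixKer x).2

/-- The extraspecial subgroup in the section. -/
noncomputable def fk : fixK (c := c) →* (psiS h).ker :=
  ((toCS h).comp (fkCS h)).codRestrict _ fun x => by
    rw [MonoidHom.mem_ker]
    show psiS h (toCS h (fkCS h x)) = 1
    rw [psiS_toCS]
    refine qAut_ext fun v => ?_
    have := congrArg c.prL (psiV_embL h (fkCS h x) v)
    rwa [toK_fkCS, qAut_one_apply, Cfg.prL_embL h, Cfg.prL_embL h] at this

theorem coe_fk (x : fixK (c := c)) : ((fk h x : (psiS h).ker) : Subgroup.centralizer ({zS h} : Set (Sec h))) =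
    toCS h (fkCS h x) := rfl

/-- Kernel elements congruent in the section differ by a sign. -/
theorem sign_of_mkS {x y : cs h} (hx : (x : cent0) ∈ toO.ker) (hy : (y : cent0) ∈ toO.ker)
    (e : mkS h (csCA h x) = mkS h (csCA h y)) :
    ∃ z : Co0, (z = 1 ∨ z = negAut) ∧ ((y : cent0) : Co0) = ((x : cent0) : Co0) * z := by
  obtain ⟨i, z, hz, e'⟩ := (mkS_eq h).1 e
  change ((y : cent0) : Co0) = ((x : cent0) : Co0) * _ at e'
  refine ⟨z, hz, ?_⟩
  suffices hi : aCo h ^ i = 1 by rw [e', hi, mul_one]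
  set k : toO.ker := (⟨(x : cent0), hx⟩ : toO.ker)⁻¹ * ⟨(y : cent0), hy⟩ with hk
  have hkz : ((k : cent0) : Co0) = z * aCo h ^ i := by
    rw [hk]
    simp only [Subgroup.coe_mul, Subgroup.coe_inv]
    rw [e', inv_mul_cancel_left]
  have hk4 : ((k : cent0) : Co0) * ((k : cent0) : Co0) * (((k : cent0) : Co0) * ((k : cent0) : Co0)) = 1 := by
    rw [sq_of_quad k]
    split
    · exact tAut_mul_self
    · exact one_mul _
  have hz2 : z * z = 1 := by rcases hz with rfl | rfl; exacts [one_mul 1, negAut_sq]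
  have hzc : ∀ w : Co0, Commute z w := fun w => by
    rcases hz with rfl | rfl; exacts [Commute.one_left w, negAut_comm w]
  rw [hkz, (hzc _).symm.mul_mul_mul_comm, hz2, one_mul] at hk4
  have h2 : aCo h ^ i * aCo h ^ i = 1 := eq_one_of_two h hk4 (zpow_add _ _ _).symm
  exact eq_one_of_two h h2 rfl

theorem kx_of_mkS {x y : cs h} {k l : toO.ker} (hk : (k : cent0) = x) (hl : (l : cent0) = y)
    (e : mkS h (csCA h x) = mkS h (csCA h y)) : kx k = kx l := by
  obtain ⟨z, hz, e'⟩ := sign_of_mkS h (hk ▸ k.2) (hl ▸ l.2) e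
  have hkl : kx (k⁻¹ * l) = 0 := by
    refine kx_of_zeta ?_
    have : (((k⁻¹ * l : toO.ker) : cent0) : Co0) = z := by
      simp only [Subgroup.coe_mul, Subgroup.coe_inv, hk, hl]
      rw [e', inv_mul_cancel_left]
    rw [this]
    rcases hz with rfl | rfl
    · exact Or.inl rfl
    · exact Or.inr (Or.inr (Or.inl rfl))
  rw [kx_mul, kx_inv] at hkl
  exact (eq_neg_of_add_eq_zero_left hkl).trans (neg_eq_self' _)

theorem fk_injective : Function.Injective (fk h) := by
  intro x y e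
  have e1 : mkS h (csCA h (fkCS h x)) = mkS h (csCA h (fkCS h y)) :=
    congrArg (fun w : (psiS h).ker => ((w : Subgroup.centralizer ({zS h} : Set (Sec h))) : Sec h)) e
  obtain ⟨z, hz, e'⟩ := sign_of_mkS h (x := fkCS h x) (y := fkCS h y) (fixKer x).2 (fixKer y).2 e1
  change (y : Co0) = (x : Co0) * z at e'
  rcases hz with rfl | rfl
  · exact Subtype.ext (by rw [e', mul_one])
  · exfalso
    obtain ⟨a, b, ex, -⟩ := x.2
    obtain ⟨a', b', ey, -⟩ := y.2
    rw [ex, ey, ← negAut_comm] at e'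
    exact kEl_ne_neg' _ _ _ _ e'

theorem fk_surjective : Function.Surjective (fk h) := by
  rintro ⟨s, hs⟩
  obtain ⟨g, rfl⟩ := toCS_surjective h s
  rw [MonoidHom.mem_ker, psiS_toCS] at hs
  obtain ⟨i, hi⟩ := psiV_eq_one h hs
  have hk : ((g : cent0) * (aC h ^ i)⁻¹) ∈ toO.ker := by
    rw [← ker_toK, MonoidHom.mem_ker, map_mul, map_inv, map_pow, hi, mul_inv_cancel]
  set k : toO.ker := ⟨_, hk⟩ with hkdef
  have hfix : c.aL (kx k) = kx k := by
    rw [← actV_aC h, actV_kx]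
    have hcom : Commute (aC h) ((g : cent0) * (aC h ^ i)⁻¹) :=
      (show Commute (aC h) (g : cent0) from (cs_comm h g).symm).mul_right
        ((Commute.self_pow (aC h) i).inv_right)
    refine congrArg kx (Subtype.ext ?_)
    show aC h * ((g : cent0) * (aC h ^ i)⁻¹) * (aC h)⁻¹ = (g : cent0) * (aC h ^ i)⁻¹
    rw [hcom.eq, mul_inv_cancel_right]
  obtain ⟨⟨a, b⟩, hrep⟩ := exists_rep k
  rw [kx_eq hrep] at hfix
  refine ⟨⟨kEl a b, a, b, rfl, hfix⟩, Subtype.ext (Subtype.ext ?_)⟩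
  show mkS h (csCA h (fkCS h _)) = mkS h (csCA h g)
  rw [mkS_eq]
  have hgk : ((g : cent0) : Co0) = ((k : cent0) : Co0) * aCo h ^ (i : ℤ) := by
    rw [zpow_natCast, hkdef]
    simp [aC, mul_assoc]
  rcases hrep with e | e
  · exact ⟨i, 1, Or.inl rfl, by
      show ((g : cent0) : Co0) = kEl a b * (1 * aCo h ^ (i : ℤ))
      rw [one_mul, hgk, e]⟩
  · exact ⟨i, negAut, Or.inr rfl, by
      show ((g : cent0) : Co0) = kEl a b * (negAut * aCo h ^ (i : ℤ))
      rw [hgk, e, ← mul_assoc (kEl a b), negAut_comm]⟩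

/-- The isomorphism with the extraspecial subgroup. -/
noncomputable def fkEquiv : fixK (c := c) ≃* (psiS h).ker :=
  MulEquiv.ofBijective (fk h) ⟨fk_injective h, fk_surjective h⟩

theorem fk_tAut : ((fk h ⟨tAut, tAut_mem_fixK h⟩ : (psiS h).ker) :
    Subgroup.centralizer ({zS h} : Set (Sec h))).1 = zS h := rfl

theorem orderOf_zS : orderOf (zS h) = 2 := by
  rw [orderOf_eq_prime_iff]
  refine ⟨by rw [zS, pow_two, ← map_mul, ← map_one (mkS h)]; exact congrArg (mkS h) (Subtype.ext tAut_mul_self), ?_⟩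
  intro e
  have h1 : fk h ⟨tAut, tAut_mem_fixK h⟩ = fk h 1 := by
    rw [map_one]; exact Subtype.ext (Subtype.ext ((fk_tAut h).trans e))
  exact tAut_ne_one (congrArg Subtype.val (fk_injective h h1))

theorem centralizer_ker :
    Subgroup.centralizer ((psiS h).ker : Set (Subgroup.centralizer ({zS h} : Set (Sec h)))) ≤ (psiS h).ker := by
  intro s hs
  obtain ⟨g, rfl⟩ := toCS_surjective h s
  rw [MonoidHom.mem_ker, psiS_toCS]
  refine qAut_ext fun v => ?_
  obtain ⟨x, hx⟩ := exists_fixK h v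
  have e : toCS h (g * fkCS h x * g⁻¹) = toCS h (fkCS h x) := by
    have := Subgroup.mem_centralizer_iff.1 hs _ (fk h x).2
    rw [coe_fk] at this
    rw [map_mul, map_mul, map_inv, ← this, mul_inv_cancel_right]
  have hk := kx_of_mkS h (k := conjK (g : cent0) (fixKer x)) (l := fixKer x) rfl rfl (congrArg Subtype.val e)
  have := psiV_embL h g v
  rw [← hx, toK_kx, hk, hx] at this
  have := congrArg c.prL this
  rwa [Cfg.prL_embL h, Cfg.prL_embL h] at this

include h

theorem refl_not_comm_fix {u : ιI c.m → ZMod 2} (hu : Qm c.m u ≠ 0) :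
    qRefl (Qm c.m) hu ∉ commutator (qAut (Qm c.m)) := by
  intro hm
  have := Subgroup.mem_map_of_mem (extHom h) hm
  rw [_root_.commutator_def, Subgroup.map_commutator, extHom_refl h] at this
  exact refl_not_comm h _ (Subgroup.commutator_mono le_top le_top this)

theorem refl_vecI {u : ℕ} (hne : Qm c.m (vecI c.m u) ≠ 0) (x : ℕ) :
    (qRefl (Qm c.m) hne).1 (vecI c.m x) = vecI c.m (reflI c.m u x) := by
  rw [qRefl_apply, polar_vecI h.hm]
  have h1 : Qm c.m (vecI c.m u) = 1 := (zmod_two _).resolve_left hne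
  rw [h1, inv_one, one_mul, reflI]
  by_cases hp : polI c.m x u = true
  · rw [hp, if_pos rfl, vecI_xor, boolZ, if_pos rfl, one_smul]
    funext k; exact (CharTwo.sub_eq_add _ _)
  · rw [Bool.not_eq_true] at hp
    rw [hp, if_neg Bool.false_ne_true, boolZ, if_neg Bool.false_ne_true, zero_smul, sub_zero]

theorem conj_fixed : ∀ a' b', a' = c.conj.2.1 → b' = c.conj.2.2 →
    c.aL (vecE (kBit a' b')) = vecE (kBit a' b') := by
  rintro _ _ rfl rfl
  obtain ⟨hw, -, e⟩ := h.conjVec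
  rw [← e, Cfg.aL_vec, (h.emb _ hw).2.2.1]

/-- The conjugate of the sign change. -/
noncomputable def qK : fixK (c := c) :=
  ⟨kEl ⟨c.conj.2.1, h.conj_lt.1⟩ ⟨c.conj.2.2, h.conj_lt.2⟩, _, _, rfl, conj_fixed h _ _ rfl rfl⟩

theorem kx_qK : kx (fixKer (qK h)) = c.embL (vecI c.m c.vecs.2) := by
  rw [kx_eq (g := fixKer (qK h)) (a := ⟨c.conj.2.1, h.conj_lt.1⟩) (b := ⟨c.conj.2.2, h.conj_lt.2⟩) (Or.inl rfl),
    Cfg.embL_vec, h.conjVec.2.2]

theorem gCo_mem : gCo h ∈ CA h := (mem_CA h).2 (aCo_gCo h).symm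

theorem fusion : mkS h ⟨gCo h, gCo_mem h⟩ * zS h * (mkS h ⟨gCo h, gCo_mem h⟩)⁻¹ =
    mkS h (csCA h (fkCS h (qK h))) := by
  rw [zS, ← map_inv, ← map_mul, ← map_mul]
  have e := conj_of_ok (acts_gCo h) (a := 0) (b := tIdx) (a' := ⟨c.conj.2.1, h.conj_lt.1⟩)
    (b' := ⟨c.conj.2.2, h.conj_lt.2⟩) (s := c.conj.1) h.gT
  rw [kEl_tIdx] at e
  refine ((mkS_eq h).2 ?_).symm
  refine ⟨0, sgnEl c.conj.1, ?_, ?_⟩
  · cases c.conj.1 <;> simp [sgnEl]
  · show gCo h * tAut * (gCo h)⁻¹ = kEl _ _ * (sgnEl c.conj.1 * _)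
    rw [zpow_zero, mul_one, e]
    cases c.conj.1
    · simp [sgnEl]
    · simp only [sgnEl, if_true]; exact negAut_comm _

theorem exists_mul_eq_t {x y : fixK (c := c)}
    (hne : QuadraticMap.polar (Qm c.m) (c.prL (kx (fixKer x))) (c.prL (kx (fixKer y))) = 1) :
    x * y * x⁻¹ = y * ⟨tAut, tAut_mem_fixK h⟩ := by
  obtain ⟨a, b, ex, -⟩ := x.2
  obtain ⟨a', b', ey, -⟩ := y.2
  refine Subtype.ext ?_
  simp only [Subgroup.coe_mul, Subgroup.coe_inv]
  rcases kEl_commutes a a' b b' with k | k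
  · rw [← ex, ← ey] at k
    exact absurd (((fixK_comm_iff h x y).1 k).symm.trans hne) zero_ne_one
  · rw [← ex, ← ey] at k
    rw [k, ← mul_assoc, mul_inv_cancel_right,
      (show IsZeta tAut from Or.inr (Or.inl rfl)).comm (fixK_le_cent0 y.2)]

theorem span_ker (hidx : (commutator (qAut (Qm c.m))).index = 2)
    (M : Subgroup (Subgroup.centralizer ({zS h} : Set (Sec h)))) (hM : M.Normal) (hMK : M ≤ (psiS h).ker)
    (hq : (fk h (qK h) : Subgroup.centralizer ({zS h} : Set (Sec h))) ∈ M) : (psiS h).ker ≤ M := by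
  let W : Set (ιI c.m → ZMod 2) := {v | ∃ x : fixK (c := c),
    ((fk h x : (psiS h).ker) : Subgroup.centralizer ({zS h} : Set (Sec h))) ∈ M ∧ c.prL (kx (fixKer x)) = v}
  have hadd : ∀ u ∈ W, ∀ v ∈ W, u + v ∈ W := by
    rintro _ ⟨x, hx, rfl⟩ _ ⟨y, hy, rfl⟩
    exact ⟨x * y, by rw [map_mul]; exact mul_mem hx hy, by rw [fixKer_mul, kx_mul, map_add]⟩
  have h0 : (0 : ιI c.m → ZMod 2) ∈ W :=
    ⟨1, by rw [map_one]; exact one_mem _, by
      rw [show fixKer (1 : fixK (c := c)) = 1 from Subtype.ext (Subtype.ext rfl), kx_one, map_zero]⟩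
  have hinv : ∀ g : cs h, ∀ v ∈ W, (psiV h g).1 v ∈ W := by
    rintro g _ ⟨x, hx, rfl⟩
    have hm := hM.conj_mem _ hx (toCS h g)
    obtain ⟨x', hx'⟩ := fk_surjective h ⟨_, hMK hm⟩
    refine ⟨x', by rw [hx']; exact hm, ?_⟩
    have e : mkS h (csCA h (fkCS h x')) = mkS h (csCA h (g * fkCS h x * g⁻¹)) := by
      rw [← coe_toCS, ← coe_toCS, map_mul, map_mul, map_inv]
      exact congrArg (fun w : (psiS h).ker => ((w : Subgroup.centralizer ({zS h} : Set (Sec h))) : Sec h)) hx'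
    have hk := kx_of_mkS h (k := fixKer x') (l := conjK (g : cent0) (fixKer x)) rfl rfl e
    rw [hk, ← toK_kx]
    have := congrArg c.prL (psiV_embL h g (c.prL (kx (fixKer x))))
    rw [Cfg.prL_embL h, kx_fixK h] at this
    exact this.symm
  have hw0 : vecI c.m c.vecs.2 ∈ W := ⟨qK h, hq, by rw [kx_qK, Cfg.prL_embL h]⟩
  have hpair : ∀ u v : ℕ, quadI c.m u = true → quadI c.m v = true →
      vecI c.m (reflI c.m u (reflI c.m v c.vecs.2)) ∈ W := by
    intro u v hu hv
    have hu' : Qm c.m (vecI c.m u) ≠ 0 := by rw [Qm_vecI h.hm, hu]; exact one_ne_zero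
    have hv' : Qm c.m (vecI c.m v) ≠ 0 := by rw [Qm_vecI h.hm, hv]; exact one_ne_zero
    have hm : qRefl (Qm c.m) hu' * qRefl (Qm c.m) hv' ∈ (psiV h).range := by
      rw [range_psiV h hidx]
      exact (Subgroup.mul_mem_iff_of_index_two hidx).2
        ⟨fun e => absurd e (refl_not_comm_fix h hu'), fun e => absurd e (refl_not_comm_fix h hv')⟩
    obtain ⟨g, hg⟩ := hm
    have := hinv g _ hw0
    rwa [hg, qAut_mul_apply, refl_vecI h, refl_vecI h] at this
  have hunit : ∀ i < c.dim, vecI c.m (2 ^ i) ∈ W := by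
    intro i hi
    have hwit := h.wits i hi
    simp only [Cfg.witOk, Bool.and_eq_true, Bool.or_eq_true, beq_iff_eq, List.all_eq_true, List.mem_range,
      decide_eq_true_eq] at hwit
    obtain ⟨hl, ⟨hlen, e⟩ | ⟨hlen, e⟩⟩ := hwit
    · rw [← e]; exact hpair _ _ (hl 0 (by omega)).2 (hl 1 (by omega)).2
    · rw [← e, vecI_xor]
      exact hadd _ (hpair _ _ (hl 0 (by omega)).2 (hl 1 (by omega)).2) _
        (hpair _ _ (hl 2 (by omega)).2 (hl 3 (by omega)).2)
  have hall : ∀ n ≤ c.dim, ∀ x < 2 ^ n, vecI c.m x ∈ W := by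
    intro n
    induction n with
    | zero =>
      intro _ x hx
      obtain rfl : x = 0 := by simpa using hx
      rwa [vecI_zero]
    | succ n ih =>
      intro hn x hx
      by_cases hb : x.testBit n = true
      · have hlt : x ^^^ 2 ^ n < 2 ^ n := by
          refine Nat.lt_pow_two_of_testBit _ fun j hj => ?_
          rw [Nat.testBit_xor, Nat.testBit_two_pow]
          rcases eq_or_lt_of_le hj with rfl | hj'
          · simp [hb]
          · rw [Nat.testBit_lt_two_pow (lt_of_lt_of_le hx (Nat.pow_le_pow_right (by norm_num) hj'))]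
            simp [hj'.ne]
        have := hadd _ (ih (by omega) _ hlt) _ (hunit n (by omega))
        rwa [← vecI_xor, Nat.xor_assoc, Nat.xor_self, Nat.xor_zero] at this
      · refine ih (by omega) x (Nat.lt_pow_two_of_testBit _ fun j hj => ?_)
        rcases eq_or_lt_of_le hj with rfl | hj'
        · simpa using hb
        · exact Nat.testBit_lt_two_pow (lt_of_lt_of_le hx (Nat.pow_le_pow_right (by norm_num) hj'))
  -- the centre
  obtain ⟨u, -, hu⟩ := h.exists_pol
  obtain ⟨y, hy⟩ := exists_fixK h (vecI c.m u)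
  have hyq : y * qK h * y⁻¹ = qK h * ⟨tAut, tAut_mem_fixK h⟩ := exists_mul_eq_t h (by
    rw [hy, kx_qK, Cfg.prL_embL h, Cfg.prL_embL h, polar_vecI h.hm, hu]; rfl)
  have hzM : ((fk h ⟨tAut, tAut_mem_fixK h⟩ : (psiS h).ker) : Subgroup.centralizer ({zS h} : Set (Sec h))) ∈ M := by
    have h1 : (qK h)⁻¹ * (y * qK h * y⁻¹) = ⟨tAut, tAut_mem_fixK h⟩ := by rw [hyq, inv_mul_cancel_left]
    have h2 := congrArg (fun w => ((fk h w : (psiS h).ker) : Subgroup.centralizer ({zS h} : Set (Sec h)))) h1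
    simp only [map_mul, map_inv, Subgroup.coe_mul, Subgroup.coe_inv] at h2
    rw [← h2]
    exact mul_mem (inv_mem hq) (hM.conj_mem _ hq _)
  intro s hs
  obtain ⟨x, hx⟩ := fk_surjective h ⟨s, hs⟩
  obtain ⟨n, hn, en⟩ := exists_vecI c.m (c.prL (kx (fixKer x)))
  obtain ⟨x1, hx1, e1⟩ := hall c.dim le_rfl n hn
  have hd : kx (fixKer (x * x1)) = 0 := by
    rw [← kx_fixK h, fixKer_mul, kx_mul, map_add, e1, en]
    rw [show c.prL (kx (fixKer x)) + c.prL (kx (fixKer x)) = 0 from funext fun _ => CharTwo.add_self_eq_zero _,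
      map_zero]
  have hxe : ((fk h (x * x1) : (psiS h).ker) : Subgroup.centralizer ({zS h} : Set (Sec h))) ∈ M := by
    rcases fixK_eq_of_zero hd with e | e
    · rw [show x * x1 = 1 from Subtype.ext e, map_one]; exact one_mem _
    · rwa [show x * x1 = ⟨tAut, tAut_mem_fixK h⟩ from Subtype.ext e]
  have := mul_mem hxe (inv_mem hx1)
  rw [map_mul, Subgroup.coe_mul, mul_inv_cancel_right, hx] at this
  exact this

theorem section_main (hidx : (commutator (qAut (Qm c.m))).index = 2)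
    (hsimp : IsSimpleGroup ↥(commutator (qAut (Qm c.m))))
    (hnot2 : ¬ IsPGroup 2 ↥(commutator (qAut (Qm c.m)))) :
    IsSimpleGroup (Sec h) ∧ ¬ IsMulCommutative (Sec h) ∧ orderOf (zS h) = 2 ∧
      generalizedFittingSubgroup (Subgroup.centralizer ({zS h} : Set (Sec h))) = (psiS h).ker ∧
      IsExtraspecial 2 (psiS h).ker ∧ Nat.card (psiS h).ker = 2 ^ (2 * c.m + 3) ∧
      Nonempty ((Subgroup.centralizer ({zS h} : Set (Sec h))) ⧸ (psiS h).ker ≃*
        Omega (ZMod 2) (quadFormMinus c.m (ZMod 2) 1 1)) ∧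
      ∃ g : Sec h, (∃ hq : g * zS h * g⁻¹ ∈ Subgroup.centralizer ({zS h} : Set (Sec h)),
        (⟨g * zS h * g⁻¹, hq⟩ : Subgroup.centralizer ({zS h} : Set (Sec h))) ∈ (psiS h).ker) ∧
        g * zS h * g⁻¹ ≠ zS h := by
  haveI : Finite Co0 := Nat.finite_of_card_ne_zero (by rw [card_co0]; norm_num)
  have hr : (psiS h).range = commutator (qAut (Qm c.m)) := (range_psiS h).trans (range_psiV h hidx)
  have hex : IsExtraspecial 2 (psiS h).ker :=
    CfsgLib.LargeExtra.isExtraspecial_of_mulEquiv (fkEquiv h) (fixK_extraspecial h)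
  have hcard : Nat.card (psiS h).ker = 2 ^ (2 * c.m + 3) := by
    rw [← Nat.card_congr (fkEquiv h).toEquiv, card_fixK h]
  have hsimp' : IsSimpleGroup ↥(psiS h).range := hr ▸ hsimp
  have hnot2' : ¬ IsPGroup 2 ↥(psiS h).range := hr ▸ hnot2
  set q : Subgroup.centralizer ({zS h} : Set (Sec h)) := (fk h (qK h) : (psiS h).ker).1 with hqdef
  have hq : (q : Sec h) = mkS h ⟨gCo h, gCo_mem h⟩ * zS h * (mkS h ⟨gCo h, gCo_mem h⟩)⁻¹ := (fusion h).symm
  have hpr : c.prL (kx (fixKer (qK h))) = vecI c.m c.vecs.2 := by rw [kx_qK, Cfg.prL_embL h]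
  have hqz : (q : Sec h) ≠ zS h := by
    intro e
    have e1 : fk h (qK h) = fk h ⟨tAut, tAut_mem_fixK h⟩ := Subtype.ext (Subtype.ext (e.trans (fk_tAut h).symm))
    have e2 := congrArg (fun x => kx (fixKer x)) (fk_injective h e1)
    have e3 : kx (fixKer (c := c) ⟨tAut, tAut_mem_fixK h⟩) = 0 := kx_of_zeta (Or.inr (Or.inl rfl))
    simp only [e3] at e2
    rw [e2, map_zero, ← vecI_zero c.m] at hpr
    exact h.conjVec.2.1 (vecI_injOn (Nat.two_pow_pos _) h.conjVec.1 hpr).symm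
  obtain ⟨u, -, hu⟩ := h.exists_pol
  obtain ⟨y, hy⟩ := exists_fixK h (vecI c.m u)
  have hyq : y * qK h * y⁻¹ = qK h * ⟨tAut, tAut_mem_fixK h⟩ := exists_mul_eq_t h (by
    rw [hy, hpr, Cfg.prL_embL h, polar_vecI h.hm, hu]; rfl)
  obtain ⟨u1, -, v1, -, huv, hu1, hv1⟩ := h.exists_pair
  obtain ⟨x1, hx1⟩ := exists_fixK h (vecI c.m u1)
  obtain ⟨x2, hx2⟩ := exists_fixK h (vecI c.m v1)
  have hcomm : ∀ x : fixK (c := c), QuadraticMap.polar (Qm c.m) (c.prL (kx (fixKer x))) (vecI c.m c.vecs.2) = 0 →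
      (fk h x).1 * q = q * (fk h x).1 := by
    intro x hx
    rw [hqdef, ← Subgroup.coe_mul, ← Subgroup.coe_mul, ← map_mul, ← map_mul]
    refine congrArg (fun w => ((fk h w : (psiS h).ker) : Subgroup.centralizer ({zS h} : Set (Sec h))))
      (Subtype.ext ((fixK_comm_iff h x (qK h)).2 ?_))
    rw [hpr]; exact hx
  obtain ⟨hS1, hS2, hS3⟩ := simple_of_local (zS h) (orderOf_zS h) (psiS h) hsimp' hnot2'
    (IsPGroup.of_card hcard) (centralizer_ker h) hex (mkS h ⟨gCo h, gCo_mem h⟩) q (fk h (qK h)).2 hq hqz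
    (fun M hM hMK hqM => span_ker h hidx M hM hMK hqM)
    ⟨(fk h y).1, (fk h y).2, by
      have := congrArg (fun w => (((fk h w : (psiS h).ker) : Subgroup.centralizer ({zS h} : Set (Sec h))) : Sec h)) hyq
      simp only [map_mul, map_inv, Subgroup.coe_mul, Subgroup.coe_inv] at this
      rw [fk_tAut] at this
      exact this⟩
    ⟨(fk h x1).1, (fk h x1).2, (fk h x2).1, (fk h x2).2,
      hcomm x1 (by rw [hx1, Cfg.prL_embL h, polar_vecI h.hm, hu1]; rfl),
      hcomm x2 (by rw [hx2, Cfg.prL_embL h, polar_vecI h.hm, hv1]; rfl), fun e => by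
        rw [← Subgroup.coe_mul, ← Subgroup.coe_mul, ← map_mul, ← map_mul] at e
        have := (fixK_comm_iff h x1 x2).1 (congrArg Subtype.val (fk_injective h (Subtype.ext e)))
        rw [hx1, hx2, Cfg.prL_embL h, Cfg.prL_embL h, polar_vecI h.hm, huv] at this
        exact one_ne_zero this⟩
  refine ⟨hS1, hS2, orderOf_zS h, hS3, hex, hcard, ?_, mkS h ⟨gCo h, gCo_mem h⟩, ⟨hq ▸ q.2, ?_⟩, hq ▸ hqz⟩
  · rw [← coe_qExt_qBin]
    exact ⟨((QuotientGroup.quotientKerEquivRange (psiS h)).trans (MulEquiv.subgroupCongr hr)).trans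
      (((isoEquiv (Qm c.m)).symm.subgroupMap (commutator (qAut (Qm c.m)))).trans
        (MulEquiv.subgroupCongr (map_commutator_equiv (isoEquiv (Qm c.m)).symm)))⟩
  · have e : (⟨_, hq ▸ q.2⟩ : Subgroup.centralizer ({zS h} : Set (Sec h))) = q := Subtype.ext hq.symm
    rw [e]; exact (fk h (qK h)).2

end CfsgLib.Leech.CoSections
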