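import Cfsg.Agent.Lib.Leech.CoSections.Config

/-!
# The linear maps of a configuration and the element of odd order
-/

set_option autoImplicit false
set_option maxRecDepth 100000

namespace CfsgLib.Leech.CoSections

open Cfsg CfsgLib.Golay CfsgLib.Leech CfsgLib.Leech.CoTwo CfsgLib.Leech.CoOne Matrix CfsgLib.Classical

theorem linMapN_vecE {μ : Type} (img : List ℕ) (pos : μ → ℕ) (x : ℕ) (k : μ) :
    linMapN img 8 coordE pos (vecE x) k = bitZ (linN img 8 x) (pos k) := by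
  show ∑ i ∈ Finset.range 8, vecE x (coordE i) * bitZ (img.getD i 0) (pos k) = _
  rw [bitZ_linN]
  refine Finset.sum_congr rfl fun i hi => ?_
  rw [vecE_apply, posE_coordE i (Finset.mem_range.1 hi)]

theorem single_eq_vecE : ∀ k j : Fin 4 ⊕ Fin 4, (Pi.single k 1 : V8) j = vecE (2 ^ posE k) j := by
  decide

theorem lin_ext8 {W : Type} [AddCommGroup W] [Module (ZMod 2) W] {A B : V8 →ₗ[ZMod 2] W}
    (h : ∀ i < 8, A (vecE (2 ^ i)) = B (vecE (2 ^ i))) : A = B := by
  refine LinearMap.pi_ext' fun k => LinearMap.ext_ring ?_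
  simp only [LinearMap.comp_apply, LinearMap.coe_single]
  rw [show (Pi.single k 1 : V8) = vecE (2 ^ posE k) from funext (single_eq_vecE k)]
  exact h _ (posE_lt k)

theorem linN_two_pow (img : List ℕ) (i : ℕ) : ∀ n, linN img n (2 ^ i) = if i < n then img.getD i 0 else 0
  | 0 => by simp [linN]
  | n + 1 => by
    rw [linN, linN_two_pow img i n, Nat.testBit_two_pow]
    rcases lt_trichotomy i n with h | rfl | h
    · simp [h, h.ne, Nat.lt_succ_of_lt h]
    · simp
    · simp [h.not_gt, h.ne', show ¬ i < n + 1 by omega]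

theorem vec_zero : vecE 0 = 0 := by funext k; simp [vecE]

theorem vecI_zero (m : ℕ) : vecI m 0 = 0 := by funext k; simp [vecI, bitZ, boolZ]

theorem vecE_injective {x y : ℕ} (hx : x < 256) (hy : y < 256) (h : vecE x = vecE y) : x = y :=
  vecE_injOn _ hx _ hy h

namespace Cfg

variable {c : Cfg}

/-- The embedding. -/
def embL (c : Cfg) : (ιI c.m → ZMod 2) →ₗ[ZMod 2] V8 := linMapN c.eImg c.dim (coordI c.m) posE

/-- The projection. -/
def prL (c : Cfg) : V8 →ₗ[ZMod 2] (ιI c.m → ZMod 2) := linMapN c.pImg 8 coordE (posI c.m)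

/-- The action. -/
def aL (c : Cfg) : V8 →ₗ[ZMod 2] V8 := linMapN c.aImg 8 coordE posE

theorem embL_vec (x : ℕ) : c.embL (vecI c.m x) = vecE (c.eN x) := by
  funext k
  show ∑ i ∈ Finset.range c.dim, vecI c.m x (coordI c.m i) * bitZ (c.eImg.getD i 0) (posE k) = _
  rw [vecE_apply, eN, bitZ_linN]
  refine Finset.sum_congr rfl fun i hi => ?_
  rw [vecI, posI_coordI (Finset.mem_range.1 hi)]

theorem prL_vec (x : ℕ) : c.prL (vecE x) = vecI c.m (c.pN x) := funext fun _ => linMapN_vecE _ _ _ _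

theorem aL_vec (x : ℕ) : c.aL (vecE x) = vecE (c.aN x) := funext fun k => by
  rw [vecE_apply]; exact linMapN_vecE _ _ _ _

variable (h : c.Ok)
include h

theorem prL_embL (v : ιI c.m → ZMod 2) : c.prL (c.embL v) = v := by
  obtain ⟨x, hx, rfl⟩ := exists_vecI c.m v
  rw [embL_vec, prL_vec, (h.emb x hx).1]

theorem aL_embL (v : ιI c.m → ZMod 2) : c.aL (c.embL v) = c.embL v := by
  obtain ⟨x, hx, rfl⟩ := exists_vecI c.m v
  rw [embL_vec, aL_vec, (h.emb x hx).2.2.1]

theorem prL_aL (v : V8) : c.prL (c.aL v) = c.prL v := by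
  obtain ⟨x, hx, rfl⟩ := exists_vecE v
  rw [aL_vec, prL_vec, prL_vec, (h.proj x hx).2.2.1]

theorem embL_of_fixed {v : V8} (hv : c.aL v = v) : c.embL (c.prL v) = v := by
  obtain ⟨x, hx, rfl⟩ := exists_vecE v
  rw [aL_vec] at hv
  rw [prL_vec, embL_vec, (h.proj x hx).2.2.2.2 (vecE_injective (h.proj x hx).2.1 hx hv)]

theorem quad_embL (v : ιI c.m → ZMod 2) : Q8 (c.embL v) = Qm c.m v := by
  obtain ⟨x, hx, rfl⟩ := exists_vecI c.m v
  rw [embL_vec, Q8_vecE, Qm_vecI h.hm, (h.emb x hx).2.2.2]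

theorem quad_split (v : V8) : Q8 v = Qm c.m (c.prL v) + Q8 (v + c.embL (c.prL v)) := by
  obtain ⟨x, hx, rfl⟩ := exists_vecE v
  rw [prL_vec, embL_vec, ← vecE_xor, Q8_vecE, Q8_vecE, Qm_vecI h.hm, ← boolZ_xor, ← (h.proj x hx).2.2.2.1]

theorem exists_moved {v : V8} (hv : c.prL v = 0) : ∃ u, c.aL u + u = v := by
  obtain ⟨x, hx, rfl⟩ := exists_vecE v
  have h0 : c.pN x = 0 := vecI_injOn (h.proj x hx).1 (Nat.two_pow_pos _) (by rw [← prL_vec, hv, vecI_zero])
  obtain ⟨u, hu, e⟩ := h.moved x hx h0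
  exact ⟨vecE u, by rw [aL_vec, ← vecE_xor, e]⟩

end Cfg

/-! ### The elements -/

variable {c : Cfg}

/-- The element of odd order. -/
def aCo (h : c.Ok) : Co0 := matAut c.aMat (trMat c.aMat) h.matA h.matA'

/-- The element moving the sign change. -/
def gCo (h : c.Ok) : Co0 := matAut c.gMat (trMat c.gMat) h.matG h.matG'

theorem acts_aCo (h : c.Ok) : Acts (aCo h) c.aMat := coe_matAut_smul h.matA h.matA'

theorem acts_gCo (h : c.Ok) : Acts (gCo h) c.gMat := coe_matAut_smul h.matG h.matG'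

theorem aCo_pow (h : c.Ok) : aCo h ^ c.r = 1 := by
  refine ext_gen fun v l hl hv => Subtype.ext ?_
  rw [(acts_aCo h).pow_img hv, one_smul, hv, beq_iff_eq.1 (List.all_eq_true.1 h.powA l hl)]

theorem aCo_gCo (h : c.Ok) : aCo h * gCo h = gCo h * aCo h := by
  refine ext_gen fun v l hl hv => Subtype.ext ?_
  rw [mul_smul, mul_smul, (acts_aCo h).img ((acts_gCo h).img hv), (acts_gCo h).img ((acts_aCo h).img hv),
    beq_iff_eq.1 (List.all_eq_true.1 h.commG l hl)]

theorem aCo_mem (h : c.Ok) : aCo h ∈ cent0 := by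
  refine Subgroup.mem_centralizer_singleton_iff.2 ?_
  have := conj_of_ok (acts_aCo h) (a := 0) (a' := 0) (b := tIdx) (b' := tIdx) (s := false) h.commT
  rw [kEl_tIdx, sgnEl, if_neg Bool.false_ne_true, one_mul, mul_inv_eq_iff_eq_mul] at this
  exact this

/-- The element in the centraliser of the sign change. -/
def aC (h : c.Ok) : cent0 := ⟨aCo h, aCo_mem h⟩

theorem aC_pow (h : c.Ok) : aC h ^ c.r = 1 := Subtype.ext (aCo_pow h)

theorem sgn_rep (s : Bool) (a : Fin 16) (b : Fin 32) {k : toO.ker}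
    (e : ((k : cent0) : Co0) = sgnEl s * kEl a b) : kx k = vecE (kBit a.val b.val) := by
  refine kx_eq ?_
  cases s
  · exact Or.inl (by rw [e, sgnEl, if_neg Bool.false_ne_true, one_mul])
  · exact Or.inr (by rw [e, sgnEl, if_pos rfl])

theorem actV_aC (h : c.Ok) : actV (aC h) = c.aL := by
  refine lin_ext8 fun i hi => ?_
  obtain ⟨h1, h2, h3, h4, hok, hb, hb'⟩ := h.units i hi
  have hlin : ∀ x, i < 8 → x = 2 ^ i → linN c.aImg 8 x = c.aImg.getD i 0 := by
    rintro x hi8 rfl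
    rw [linN_two_pow, if_pos hi8]
  set a : Fin 16 := ⟨_, h1⟩
  set b : Fin 32 := ⟨_, h2⟩
  have hk : kx (kK a b) = vecE (2 ^ i) := by rw [kx_kK]; exact congrArg vecE hb
  have he := conj_of_ok (acts_aCo h) (a := a) (b := b) (a' := ⟨_, h3⟩) (b' := ⟨_, h4⟩)
    (s := (c.units.getD i (false, 0, 0)).1) hok
  rw [Cfg.aL_vec, Cfg.aN, hlin _ hi rfl, ← hb', ← hk, actV_kx]
  exact sgn_rep _ ⟨_, h3⟩ ⟨_, h4⟩ (k := conjK (aC h) (kK a b)) he

theorem toK_aC (h : c.Ok) (v : V8) : (toK (aC h)).1 v = c.aL v := LinearMap.congr_fun (actV_aC h) v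

theorem isZeta_pow_odd {z : Co0} (hz : IsZeta z) {n : ℕ} (hn : n % 2 = 1) : z ^ n = z := by
  conv_lhs => rw [← Nat.div_add_mod n 2, hn, pow_succ, pow_mul, pow_two, hz.sq, one_pow, one_mul]

end CfsgLib.Leech.CoSections
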