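import Cfsg.Agent.Lib.Leech.CoSections.Maps

/-!
# The action of the centraliser on the fixed space
-/

set_option autoImplicit false
set_option maxRecDepth 100000
set_option maxHeartbeats 400000

namespace CfsgLib.Leech.CoSections

open Cfsg CfsgLib.Golay CfsgLib.Leech CfsgLib.Leech.CoTwo CfsgLib.Leech.CoOne Matrix CfsgLib.Classical

theorem qAut_mul_apply {V : Type} [AddCommGroup V] [Module (ZMod 2) V] {Q : QuadraticForm (ZMod 2) V}
    (a b : qAut Q) (v : V) : (a * b).1 v = a.1 (b.1 v) := rfl

theorem qAut_one_apply {V : Type} [AddCommGroup V] [Module (ZMod 2) V] {Q : QuadraticForm (ZMod 2) V}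
    (v : V) : (1 : qAut Q).1 v = v := rfl

variable {c : Cfg} (h : c.Ok)

/-- The centraliser in the centraliser of the sign change. -/
noncomputable abbrev cs : Subgroup cent0 := Subgroup.centralizer ({aC h} : Set cent0)

theorem cs_comm (g : cs h) : (g : cent0) * aC h = aC h * g :=
  Subgroup.mem_centralizer_singleton_iff.1 g.2

theorem actV_fixed (g : cs h) (v : ιI c.m → ZMod 2) :
    c.embL (c.prL (actV g (c.embL v))) = actV g (c.embL v) := by
  refine Cfg.embL_of_fixed h ?_
  rw [← actV_aC h, ← actV_comp, ← cs_comm, actV_comp, actV_aC h, Cfg.aL_embL h]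

/-- The action on the fixed space. -/
noncomputable def resV (g : cs h) : (ιI c.m → ZMod 2) →ₗ[ZMod 2] (ιI c.m → ZMod 2) :=
  c.prL.comp ((actV (g : cent0)).comp c.embL)

theorem resV_comp (g g' : cs h) (v : ιI c.m → ZMod 2) : resV h (g * g') v = resV h g (resV h g' v) := by
  show c.prL (actV ((g : cent0) * g') (c.embL v)) = c.prL (actV g (c.embL (c.prL (actV g' (c.embL v)))))
  rw [actV_fixed, actV_comp]

theorem resV_one (v : ιI c.m → ZMod 2) : resV h 1 v = v := by
  show c.prL (actV 1 (c.embL v)) = v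
  rw [actV_one, Cfg.prL_embL h]

theorem resV_quad (g : cs h) (v : ιI c.m → ZMod 2) : Qm c.m (resV h g v) = Qm c.m v := by
  show Qm c.m (c.prL (actV g (c.embL v))) = _
  rw [← Cfg.quad_embL h, actV_fixed, actV_quad, Cfg.quad_embL h]

/-- The restricted automorphism. -/
noncomputable def linV (g : cs h) : (ιI c.m → ZMod 2) ≃ₗ[ZMod 2] (ιI c.m → ZMod 2) :=
  LinearEquiv.ofLinearMap (resV h g) (resV h g⁻¹)
    (LinearMap.ext fun v => by rw [LinearMap.comp_apply, ← resV_comp, mul_inv_cancel, resV_one, LinearMap.id_apply])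
    (LinearMap.ext fun v => by rw [LinearMap.comp_apply, ← resV_comp, inv_mul_cancel, resV_one, LinearMap.id_apply])

theorem linV_apply (g : cs h) (v : ιI c.m → ZMod 2) : linV h g v = resV h g v := rfl

theorem linV_mem (g : cs h) : linV h g ∈ qAut (Qm c.m) := fun v => by rw [linV_apply]; exact resV_quad h g v

theorem linV_mul (g g' : cs h) : linV h (g * g') = linV h g * linV h g' :=
  LinearEquiv.ext fun v => by rw [LinearEquiv.mul_apply, linV_apply, linV_apply, linV_apply, resV_comp]

/-- The homomorphism to the orthogonal group of the fixed space. -/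
noncomputable def psiV : cs h →* qAut (Qm c.m) :=
  MonoidHom.mk' (fun g => ⟨linV h g, linV_mem h g⟩) fun a b => Subtype.ext (linV_mul h a b)

theorem psiV_apply (g : cs h) (v : ιI c.m → ZMod 2) : (psiV h g).1 v = resV h g v := rfl

theorem psiV_embL (g : cs h) (v : ιI c.m → ZMod 2) :
    c.embL ((psiV h g).1 v) = (toK (g : cent0)).1 (c.embL v) := by
  rw [psiV_apply]; exact actV_fixed h g v

/-- The extension of an isometry of the fixed space. -/
def extL (g : qAut (Qm c.m)) : V8 →ₗ[ZMod 2] V8 :=
  c.embL.comp (g.1.toLinearMap.comp c.prL) + LinearMap.id + c.embL.comp c.prL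

theorem extL_apply (g : qAut (Qm c.m)) (v : V8) :
    extL g v = c.embL (g.1 (c.prL v)) + v + c.embL (c.prL v) := rfl

theorem add_self8 (v : V8) : v + v = 0 := funext fun _ => CharTwo.add_self_eq_zero _

include h

theorem prL_extL (g : qAut (Qm c.m)) (v : V8) : c.prL (extL g v) = g.1 (c.prL v) := by
  rw [extL_apply, map_add, map_add, Cfg.prL_embL h, Cfg.prL_embL h, add_assoc,
    show c.prL v + c.prL v = 0 from funext fun _ => CharTwo.add_self_eq_zero _, add_zero]

theorem extL_mul (g g' : qAut (Qm c.m)) (v : V8) : extL (g * g') v = extL g (extL g' v) := by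
  rw [extL_apply g (extL g' v), prL_extL h, extL_apply (g * g'), extL_apply g']
  rw [show (g * g').1 (c.prL v) = g.1 (g'.1 (c.prL v)) from rfl]
  have := add_self8 (c.embL (g'.1 (c.prL v)))
  linear_combination (norm := module) -this

omit h in
theorem extL_one (v : V8) : extL (1 : qAut (Qm c.m)) v = v := by
  rw [extL_apply, show ((1 : qAut (Qm c.m)).1 (c.prL v)) = c.prL v from rfl, add_comm (c.embL _) v,
    add_assoc, add_self8, add_zero]

theorem extL_quad (g : qAut (Qm c.m)) (v : V8) : Q8 (extL g v) = Q8 v := by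
  rw [Cfg.quad_split h (extL g v), Cfg.quad_split h v, prL_extL h, qAut_map]
  congr 2
  rw [extL_apply, add_assoc, add_assoc, add_comm (c.embL (g.1 (c.prL v))), add_assoc, add_assoc,
    add_self8, add_zero]

/-- The extended automorphism. -/
noncomputable def linX (g : qAut (Qm c.m)) : V8 ≃ₗ[ZMod 2] V8 :=
  LinearEquiv.ofLinearMap (extL g) (extL g⁻¹)
    (LinearMap.ext fun v => by rw [LinearMap.comp_apply, ← extL_mul h, mul_inv_cancel, extL_one, LinearMap.id_apply])
    (LinearMap.ext fun v => by rw [LinearMap.comp_apply, ← extL_mul h, inv_mul_cancel, extL_one, LinearMap.id_apply])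

theorem linX_apply (g : qAut (Qm c.m)) (v : V8) : linX h g v = extL g v := rfl

theorem linX_mem (g : qAut (Qm c.m)) : linX h g ∈ qAut Q8 := fun v => by rw [linX_apply]; exact extL_quad h g v

theorem linX_mul (g g' : qAut (Qm c.m)) : linX h (g * g') = linX h g * linX h g' :=
  LinearEquiv.ext fun v => by rw [LinearEquiv.mul_apply, linX_apply, linX_apply, linX_apply, extL_mul h]

/-- The extension as a homomorphism. -/
noncomputable def extHom : qAut (Qm c.m) →* qAut Q8 :=
  MonoidHom.mk' (fun g => ⟨linX h g, linX_mem h g⟩) fun a b => Subtype.ext (linX_mul h a b)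

theorem extHom_apply (g : qAut (Qm c.m)) (v : V8) : (extHom h g).1 v = extL g v := rfl

theorem extHom_embL (g : qAut (Qm c.m)) (v : ιI c.m → ZMod 2) :
    (extHom h g).1 (c.embL v) = c.embL (g.1 v) := by
  rw [extHom_apply, extL_apply, Cfg.prL_embL h, add_assoc, add_self8, add_zero]

theorem extHom_comm (g : qAut (Qm c.m)) : extHom h g * toK (aC h) = toK (aC h) * extHom h g :=
  qAut_ext fun v => by
    show extL g ((toK (aC h)).1 v) = (toK (aC h)).1 (extL g v)
    rw [toK_aC, toK_aC, extL_apply, extL_apply, Cfg.prL_aL h, map_add, map_add, Cfg.aL_embL h, Cfg.aL_embL h]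

/-- An isometry commuting with the element and trivial on the fixed space is one of its powers. -/
theorem eq_pow_of_fix {g : qAut Q8} (hc : g * toK (aC h) = toK (aC h) * g)
    (hf : ∀ v, g.1 (c.embL v) = c.embL v) : ∃ i : ℕ, g = toK (aC h) ^ i := by
  have hcomm : ∀ v, g.1 (c.aL v) = c.aL (g.1 v) := fun v => by
    rw [← toK_aC h, ← toK_aC h]
    exact congrArg (fun f : qAut Q8 => f.1 v) hc
  have hzero : ∀ v, c.prL v = 0 → c.prL (g.1 v) = 0 := by
    intro v hv
    obtain ⟨u, rfl⟩ := Cfg.exists_moved h hv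
    rw [map_add, hcomm, map_add, Cfg.prL_aL h]
    exact funext fun _ => CharTwo.add_self_eq_zero _
  obtain ⟨hv1, hp1, hne⟩ := h.vec_ok
  obtain ⟨x, hx, ex⟩ := exists_vecE (g.1 (vecE c.vecs.1))
  have hpr : c.pN x = 0 := vecI_injOn (h.proj x hx).1 (Nat.two_pow_pos _) (by
    rw [← Cfg.prL_vec, ex, vecI_zero, hzero _ (by rw [Cfg.prL_vec, hp1, vecI_zero])])
  have hq : quadN x = quadN c.vecs.1 := boolZ_inj (by rw [← Q8_vecE, ← Q8_vecE, ex, qAut_map])
  rcases h.orbit x hx hpr hq with rfl | ⟨i, hi, rfl⟩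
  · exfalso
    refine hne (vecE_injective hv1 (by norm_num) ?_)
    rw [vec_zero] at ex ⊢
    exact g.1.injective (ex.symm.trans (map_zero g.1).symm)
  · refine ⟨i, qAut_ext fun v => ?_⟩
    have horb : ∀ n v, ((toK (aC h) ^ n).1 v) = (⇑c.aL)^[n] v := by
      intro n
      induction n with
      | zero => intro v; rfl
      | succ n ih =>
        intro v
        rw [pow_succ', Function.iterate_succ_apply']
        show (toK (aC h)).1 ((toK (aC h) ^ n).1 v) = _
        rw [ih, toK_aC]
    have horbN : ∀ n, vecE (c.orbN n) = (⇑c.aL)^[n] (vecE c.vecs.1) := by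
      intro n
      induction n with
      | zero => rfl
      | succ n ih => rw [Function.iterate_succ_apply', ← ih, Cfg.aL_vec]; rfl
    have hgen : ∀ n, g.1 (vecE (c.orbN n)) = (toK (aC h) ^ i).1 (vecE (c.orbN n)) := by
      intro n
      induction n with
      | zero => rw [horb, show c.orbN 0 = c.vecs.1 from rfl, ← horbN]; exact ex.symm
      | succ n ih =>
        rw [show vecE (c.orbN (n + 1)) = c.aL (vecE (c.orbN n)) from (Cfg.aL_vec _).symm, hcomm, ih, horb, horb,
          ← Function.iterate_succ_apply' (⇑c.aL), ← Function.iterate_succ_apply (⇑c.aL)]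
    have hemb : ∀ w, (toK (aC h) ^ i).1 (c.embL w) = c.embL w := fun w => by
      rw [horb]; exact Function.iterate_fixed (Cfg.aL_embL h w) i
    have hdec : v = c.embL (c.prL v) + (v + c.embL (c.prL v)) := by
      rw [← add_assoc, add_comm (c.embL _) v, add_assoc, add_self8, add_zero]
    have hrest : g.1 (v + c.embL (c.prL v)) = (toK (aC h) ^ i).1 (v + c.embL (c.prL v)) := by
      obtain ⟨y, hy, ey⟩ := exists_vecE (v + c.embL (c.prL v))
      have hpy : c.pN y = 0 := vecI_injOn (h.proj y hy).1 (Nat.two_pow_pos _) (by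
        rw [← Cfg.prL_vec, ey, map_add, Cfg.prL_embL h, vecI_zero]
        exact funext fun _ => CharTwo.add_self_eq_zero _)
      rw [← ey]
      rcases h.spanned y hy hpy with rfl | ⟨p, -, rfl | ⟨q, -, rfl⟩⟩
      · rw [vec_zero, map_zero, map_zero]
      · exact hgen p
      · rw [vecE_xor, map_add, map_add, hgen, hgen]
    conv_lhs => rw [hdec, map_add, hf, hrest]
    conv_rhs => rw [hdec, map_add, hemb]

theorem psiV_eq_one {g : cs h} (hg : psiV h g = 1) :
    ∃ i : ℕ, toK (g : cent0) = toK (aC h) ^ i :=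
  eq_pow_of_fix h (by rw [← map_mul, ← map_mul, cs_comm]) fun v => by
    rw [← psiV_embL, hg]; rfl

/-- The conjugation by a power acts trivially after projection. -/
theorem prL_conj_pow (n : ℕ) (k : toO.ker) : c.prL (kx (conjK (aC h ^ n) k)) = c.prL (kx k) := by
  induction n with
  | zero => rw [pow_zero, conjK_one]
  | succ n ih => rw [pow_succ', conjK_comp, ← actV_kx, actV_aC h, Cfg.prL_aL h, ih]

/-- Lifting of commuting elements. -/
theorem exists_lift {g : cent0} (hg : toK g * toK (aC h) = toK (aC h) * toK g) :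
    ∃ g' : cs h, toK (g' : cent0) = toK g := by
  have hk : g * aC h * g⁻¹ * (aC h)⁻¹ ∈ toO.ker := by
    rw [← ker_toK, MonoidHom.mem_ker, map_mul, map_mul, map_mul, hg, map_inv, map_inv, mul_inv_cancel_right,
      mul_inv_cancel]
  set k : toO.ker := ⟨_, hk⟩ with hkdef
  have hka : g * aC h * g⁻¹ = (k : cent0) * aC h := (inv_mul_cancel_right _ _).symm
  have hpow : ((k : cent0) * aC h) ^ c.r = 1 := by rw [← hka, conj_pow, aC_pow, mul_one, mul_inv_cancel]
  have key : ∀ n : ℕ, ∃ K : toO.ker, ((k : cent0) * aC h) ^ n = (K : cent0) * aC h ^ n ∧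
      c.prL (kx K) = n • c.prL (kx k) := by
    intro n
    induction n with
    | zero => exact ⟨1, by simp, by rw [kx_one, map_zero, zero_smul]⟩
    | succ n ih =>
      obtain ⟨K, e1, e2⟩ := ih
      refine ⟨K * conjK (aC h ^ n) k, ?_, by rw [kx_mul, map_add, e2, prL_conj_pow h, succ_nsmul]⟩
      rw [pow_succ, e1, pow_succ]
      simp only [Subgroup.coe_mul, conjK]
      group
  obtain ⟨K, e1, e2⟩ := key c.r
  rw [hpow, aC_pow, mul_one] at e1
  have hx : c.prL (kx k) = 0 := by
    rw [show K = 1 from Subtype.ext e1.symm, kx_one, map_zero] at e2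
    funext j
    have e3 := congrFun e2 j
    simp only [Pi.zero_apply, Pi.smul_apply, nsmul_eq_mul] at e3
    have hr : (c.r : ZMod 2) = 1 := by rw [← ZMod.natCast_mod, h.odd, Nat.cast_one]
    rw [hr, one_mul] at e3
    exact e3.symm
  obtain ⟨u, hu⟩ := Cfg.exists_moved h hx
  set k' := kSec u with hk'
  set w : toO.ker := k' * conjK (aC h) k'⁻¹ with hw
  have hwx : kx w = kx k := by
    rw [hw, kx_mul, ← actV_kx, kx_inv, actV_aC h, hk', kx_kSec, add_comm, hu]
  have hz : IsZeta (((k * w⁻¹ : toO.ker) : cent0) : Co0) :=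
    kx_eq_zero (by rw [kx_mul, kx_inv, hwx]; exact add_self8 _)
  set z : cent0 := ((k * w⁻¹ : toO.ker) : cent0) with hzdef
  have hzc : ∀ x : cent0, z * x = x * z := fun x => Subtype.ext (hz.comm x.2)
  have hnew : (k' : cent0)⁻¹ * g * aC h * ((k' : cent0)⁻¹ * g)⁻¹ = z * aC h := by
    calc (k' : cent0)⁻¹ * g * aC h * ((k' : cent0)⁻¹ * g)⁻¹
        = (k' : cent0)⁻¹ * (g * aC h * g⁻¹) * k' := by group
      _ = (k' : cent0)⁻¹ * (z * (w : cent0) * aC h) * k' := by
        rw [hka]
        simp only [hzdef, Subgroup.coe_mul, Subgroup.coe_inv, inv_mul_cancel_right]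
      _ = z * ((k' : cent0)⁻¹ * ((w : cent0) * aC h) * k') := by
        rw [mul_assoc z, ← mul_assoc ((k' : cent0)⁻¹), ← hzc ((k' : cent0)⁻¹)]; group
      _ = z * aC h := by
        rw [hw, Subgroup.coe_mul]
        simp only [conjK, Subgroup.coe_inv]
        group
  have hz1 : z = 1 := by
    have e := congrArg (fun x => x ^ c.r) hnew
    rw [conj_pow, aC_pow, mul_one, mul_inv_cancel, (show Commute z (aC h) from hzc _).mul_pow, aC_pow,
      mul_one] at e
    exact Subtype.ext (by rw [← isZeta_pow_odd hz h.odd, ← Subgroup.coe_pow, ← e])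
  rw [hz1, one_mul, mul_inv_eq_iff_eq_mul] at hnew
  refine ⟨⟨(k' : cent0)⁻¹ * g, Subgroup.mem_centralizer_singleton_iff.2 hnew⟩, ?_⟩
  rw [map_mul, map_inv, show toK (k' : cent0) = 1 from MonoidHom.mem_ker.1 (show (k' : cent0) ∈ toK.ker by rw [ker_toK]; exact k'.2), inv_one, one_mul]

theorem refl_not_comm {v : V8} (hv : Q8 v ≠ 0) : qRefl Q8 hv ∉ commutator (qAut Q8) := by
  intro hm
  obtain ⟨i, rfl⟩ := exists_cls hv
  refine rfl8_not_mem ?_
  have h1 : rfl8 i * rfl8 63 ∈ commutator (qAut Q8) := range_eq ▸ refl_root_mem i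
  rw [range_eq]
  exact (Subgroup.mul_mem_cancel_left _ (show rfl8 i ∈ commutator (qAut Q8) from hm)).1 h1

theorem extHom_refl {u : ιI c.m → ZMod 2} (hu : Qm c.m u ≠ 0) :
    extHom h (qRefl (Qm c.m) hu) = qRefl Q8 (v := c.embL u) (by rw [Cfg.quad_embL h]; exact hu) := by
  refine qAut_ext fun v => ?_
  rw [extHom_apply, extL_apply, qRefl_apply, qRefl_apply, Cfg.quad_embL h]
  have hp : QuadraticMap.polar Q8 v (c.embL u) = QuadraticMap.polar (Qm c.m) (c.prL v) u := by
    simp only [QuadraticMap.polar]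
    rw [Cfg.quad_split h (v + c.embL u), Cfg.quad_split h v, Cfg.quad_embL h]
    rw [show c.prL (v + c.embL u) = c.prL v + u by rw [map_add, Cfg.prL_embL h], map_add c.embL]
    rw [show v + c.embL u + (c.embL (c.prL v) + c.embL u) = v + c.embL (c.prL v) by
      rw [add_add_add_comm, add_self8, add_zero]]
    ring
  rw [hp, map_sub, map_smul]
  have := add_self8 (c.embL (c.prL v))
  linear_combination (norm := module) this

theorem range_psiV (hidx : (commutator (qAut (Qm c.m))).index = 2) :
    (psiV h).range = commutator (qAut (Qm c.m)) := by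
  haveI : Finite (qAut (Qm c.m)) := finite_qAut (Qm c.m)
  have hle : commutator (qAut (Qm c.m)) ≤ (psiV h).range := by
    intro g hg
    have he : extHom h g ∈ toK.range := by
      rw [range_toK]
      have := Subgroup.mem_map_of_mem (extHom h) hg
      rw [_root_.commutator_def, Subgroup.map_commutator] at this
      exact Subgroup.commutator_mono le_top le_top this
    obtain ⟨x, hx⟩ := he
    obtain ⟨x', hx'⟩ := exists_lift h (g := x) (by rw [hx, extHom_comm])
    refine ⟨x', qAut_ext fun v => ?_⟩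
    have := psiV_embL h x' v
    rw [hx', hx, extHom_embL] at this
    have := congrArg c.prL this
    rwa [Cfg.prL_embL h, Cfg.prL_embL h] at this
  obtain ⟨u, hu, hq⟩ := h.exists_refl
  have hne : Qm c.m (vecI c.m u) ≠ 0 := by rw [Qm_vecI h.hm, hq]; exact one_ne_zero
  have hnot : qRefl (Qm c.m) hne ∉ (psiV h).range := by
    rintro ⟨x, hx⟩
    have hfix : ∀ v, (extHom h (qRefl (Qm c.m) hne) * toK (x : cent0)).1 (c.embL v) = c.embL v := by
      intro v
      rw [qAut_mul_apply]
      rw [← psiV_embL, hx, extHom_embL]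
      rw [← qAut_mul_apply, qRefl_mul_self, qAut_one_apply]
    obtain ⟨i, hi⟩ := eq_pow_of_fix h (by
      rw [mul_assoc, ← map_mul toK, cs_comm, map_mul, ← mul_assoc, extHom_comm, mul_assoc]) hfix
    have hm : extHom h (qRefl (Qm c.m) hne) ∈ toK.range := by
      rw [eq_mul_inv_of_mul_eq hi]
      exact mul_mem (pow_mem (MonoidHom.mem_range.2 ⟨aC h, rfl⟩) i)
        (inv_mem (MonoidHom.mem_range.2 ⟨(x : cent0), rfl⟩))
    rw [range_toK, extHom_refl h] at hm
    exact refl_not_comm h _ hm
  refine le_antisymm (fun g hg => ?_) hle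
  by_contra hgn
  refine hnot ?_
  have : g * qRefl (Qm c.m) hne ∈ commutator (qAut (Qm c.m)) :=
    (Subgroup.mul_mem_iff_of_index_two hidx).2 ⟨fun e => absurd e hgn, fun e => absurd (hle e) hnot⟩
  have := mul_mem (inv_mem hg) (hle this)
  rwa [inv_mul_cancel_left] at this

end CfsgLib.Leech.CoSections
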